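import Cfsg.Prelude.Def_LieExceptional
import Cfsg.Agent.S0741
import Mathlib

/-!
Zassenhaus groups of degree `q + 1` with two-point stabilisers of even order `(q - 1) / 2`: equality
in the count of involutions, so every element swapping two points is an involution with a fixed
point, and inverts the two-point stabiliser.
-/

set_option autoImplicit false

namespace CfsgLib.SmallGroups.ZassenhausHalf

open MulAction

variable {G Ω : Type*} [Group G] [Finite G] [MulAction G Ω] [Fintype Ω]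

/-- Every element swapping two points is an involution with a fixed point. -/
theorem swap_fix (hZ : Cfsg.IsZassenhausGroup G Ω) {a b : Ω} (hab : a ≠ b)
    (heven : Even (Nat.card ↥(stabilizer G a ⊓ stabilizer G b)))
    (hd : 2 * Nat.card ↥(stabilizer G a ⊓ stabilizer G b) = Fintype.card Ω - 2)
    {g : G} (hga : g • a = b) (hgb : g • b = a) :
    g * g = 1 ∧ ∃ c, c ≠ a ∧ c ≠ b ∧ g • c = c := by
  classical
  obtain ⟨-, ht, hthree, -, -⟩ := hZ
  set D := stabilizer G a ⊓ stabilizer G b with hD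
  haveI : Fintype G := Fintype.ofFinite G
  let P := {q : Ω × Ω // q.1 ≠ q.2}
  have hz : ∀ q : P, ∃ g : G, g • q.1.1 = q.1.1 ∧ g • q.1.2 = q.1.2 ∧ g * g = 1 ∧ g ≠ 1 :=
    fun q => (Cfsg.Agent.S0741.exists_pair_involution ht hab heven q.2).2
  choose z hz1 hz2 hzz hzne using hz
  have hfix : ∀ (q : P) (x : Ω), z q • x = x → x = q.1.1 ∨ x = q.1.2 := by
    intro q x hx
    by_contra h
    push Not at h
    exact hzne q (hthree _ _ _ x q.2 h.2.symm h.1.symm (hz1 q) (hz2 q) hx)
  let e := Fintype.equivFin Ω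
  let T := fun q : P => {g : G // g • q.1.1 = q.1.2 ∧ g • q.1.2 = q.1.1} × Bool
  let F : (Σ q : P, {c : Ω // c ≠ q.1.1 ∧ c ≠ q.1.2}) → (Σ q : P, T q) := fun x =>
    ⟨⟨(x.2.1, z x.1 • x.2.1), fun h => (hfix x.1 _ h.symm).elim x.2.2.1 x.2.2.2⟩,
      ⟨z x.1, rfl, by rw [← mul_smul, hzz, one_smul]⟩, decide (e x.1.1.1 < e x.1.1.2)⟩
  have hinj : Function.Injective F := by
    rintro ⟨q, c, hc⟩ ⟨q', c', hc'⟩ h
    have hcc : c = c' := congrArg (fun y => y.1.1.1) h
    have hg : z q = z q' := congrArg (fun y => (y.2.1.1 : G)) h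
    have hb : decide (e q.1.1 < e q.1.2) = decide (e q'.1.1 < e q'.1.2) :=
      congrArg (fun y => y.2.2) h
    subst hcc
    have hqq : q = q' := by
      have h1 := hfix q' q.1.1 (hg ▸ hz1 q)
      have h2 := hfix q' q.1.2 (hg ▸ hz2 q)
      apply Subtype.ext
      rcases h1 with h1 | h1 <;> rcases h2 with h2 | h2
      · exact absurd (h1.trans h2.symm) q.2
      · exact Prod.ext h1 h2
      · exfalso
        rw [h1, h2, decide_eq_decide] at hb
        rcases lt_or_gt_of_ne (e.injective.ne q'.2) with h' | h'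
        · exact lt_asymm h' (hb.mpr h')
        · exact lt_asymm h' (hb.mp h')
      · exact absurd (h1.trans h2.symm) q.2
    subst hqq
    rfl
  have hL : ∀ q : P, Fintype.card {c : Ω // c ≠ q.1.1 ∧ c ≠ q.1.2} = Fintype.card Ω - 2 := by
    intro q
    rw [Fintype.card_subtype, show (Finset.univ.filter fun c : Ω => c ≠ q.1.1 ∧ c ≠ q.1.2) =
      Finset.univ \ {q.1.1, q.1.2} by ext c; simp, Finset.card_sdiff_of_subset (Finset.subset_univ _),
      Finset.card_pair q.2, Finset.card_univ]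
  have hR : ∀ q : P, Fintype.card (T q) ≤ 2 * Nat.card D := by
    intro q
    rw [Fintype.card_prod, Fintype.card_bool, mul_comm,
      ← (Cfsg.Agent.S0741.exists_pair_involution ht hab heven q.2).1, ← Nat.card_eq_fintype_card]
    refine Nat.mul_le_mul_left 2 ?_
    rcases isEmpty_or_nonempty {g : G // g • q.1.1 = q.1.2 ∧ g • q.1.2 = q.1.1} with h | ⟨⟨g₀⟩⟩
    · simp
    · refine Nat.card_le_card_of_injective (fun g => ⟨g₀.1⁻¹ * g.1, ?_, ?_⟩) ?_
      · show (g₀.1⁻¹ * g.1) • q.1.1 = q.1.1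
        rw [mul_smul, g.2.1, inv_smul_eq_iff, g₀.2.1]
      · show (g₀.1⁻¹ * g.1) • q.1.2 = q.1.2
        rw [mul_smul, g.2.2, inv_smul_eq_iff, g₀.2.2]
      · intro g g' h
        exact Subtype.ext (mul_left_cancel (congrArg Subtype.val h))
  have hle : Fintype.card (Σ q : P, T q) ≤ Fintype.card (Σ q : P, {c : Ω // c ≠ q.1.1 ∧ c ≠ q.1.2}) := by
    rw [Fintype.card_sigma, Fintype.card_sigma]
    exact Finset.sum_le_sum fun q _ => by rw [hL q, ← hd]; exact hR q
  have hsurj := ((Fintype.bijective_iff_injective_and_card F).mpr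
    ⟨hinj, le_antisymm (Fintype.card_le_of_injective F hinj) hle⟩).2
  obtain ⟨x, hx⟩ := hsurj ⟨⟨(a, b), hab⟩, ⟨⟨g, hga, hgb⟩, true⟩⟩
  have hzg : z x.1 = g := congrArg (fun y => (y.2.1.1 : G)) hx
  refine ⟨hzg ▸ hzz x.1, x.1.1.1, fun h => hab ?_, fun h => hab ?_, hzg ▸ hz1 x.1⟩
  · have := hz1 x.1
    rw [hzg, h, hga] at this
    exact this.symm
  · have := hz1 x.1
    rw [hzg, h, hgb] at this
    exact this

/-- An element swapping two points inverts their stabiliser, which is therefore abelian. -/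
theorem swap_inverts_even (hZ : Cfsg.IsZassenhausGroup G Ω) {a b : Ω} (hab : a ≠ b)
    (heven : Even (Nat.card ↥(stabilizer G a ⊓ stabilizer G b)))
    (hd : 2 * Nat.card ↥(stabilizer G a ⊓ stabilizer G b) = Fintype.card Ω - 2)
    {s : G} (hsa : s • a = b) (hsb : s • b = a) :
    (∀ h : G, h • a = a → h • b = b → s * h * s⁻¹ = h⁻¹) ∧
      ∀ g h : G, g • a = a → g • b = b → h • a = a → h • b = b → g * h = h * g := by
  have hinv : ∀ h : G, h • a = a → h • b = b → s * h * s⁻¹ = h⁻¹ := fun h ha hb => by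
    have hs := (swap_fix hZ hab heven hd hsa hsb).1
    have hsh := (swap_fix hZ hab heven hd (g := s * h) (by rw [mul_smul, ha, hsa]) (by rw [mul_smul, hb, hsb])).1
    rw [inv_eq_of_mul_eq_one_right hs]
    exact eq_inv_of_mul_eq_one_left (by rw [← hsh]; group)
  refine ⟨hinv, fun g h hga hgb hha hhb => ?_⟩
  have h1 := hinv (g * h) (by rw [mul_smul, hha, hga]) (by rw [mul_smul, hhb, hgb])
  rw [show s * (g * h) * s⁻¹ = (s * g * s⁻¹) * (s * h * s⁻¹) by group, hinv g hga hgb, hinv h hha hhb,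
    mul_inv_rev] at h1
  have := congrArg (fun t : G => t⁻¹) h1
  simpa using this.symm

end CfsgLib.SmallGroups.ZassenhausHalf
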