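import Cfsg.Agent.Lib.Char.Zassenhaus
import Cfsg.Agent.Lib.Classical.SL2Line
import Cfsg.Agent.Lib.Classical.Dickson.PGLPoints
import Cfsg.Agent.Lib.Classical.Dickson.MinIndex
import Mathlib

/-!
A Zassenhaus group of degree `q + 1` with two-point stabilisers of order `(q - 1) / 2`, coordinatised
by a field, in which some element swapping the two points acts as `t ↦ -e²/t`, is `PSL(2, q)`.
-/

set_option autoImplicit false

namespace CfsgLib.SmallGroups.ZassenhausHalf

open MulAction CfsgLib.Transfer CfsgLib.Classical.Dickson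
open scoped LinearAlgebra.Projectivization

set_option maxHeartbeats 1600000 in
/-- The comparison with `PSL(2, F)`. -/
theorem nonempty_psl_of_coordinates {G Ω : Type*} [Group G] [Finite G] [MulAction G Ω] [Fintype Ω]
    (hZ : Cfsg.IsZassenhausGroup G Ω) {a b : Ω} (hab : a ≠ b) {p j : ℕ} {F : Type} [Field F]
    [Fintype F] {P : F → Ω} (hF : Fintype.card F = p ^ j) (hΩ : Fintype.card Ω = p ^ j + 1)
    (hdj : p ^ j = 2 * Nat.card (stabilizer G a ⊓ stabilizer G b : Subgroup G) + 1)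
    (hPinj : Function.Injective P) (hPa : ∀ t, P t ≠ a) (hPsurj : ∀ x, x ≠ a → ∃ t, P t = x)
    (hP0 : P 0 = b) (htrans : ∀ t, ∃ g : G, g • a = a ∧ ∀ u, g • P u = P (u + t))
    (hmul : ∀ h : G, h • a = a → h • b = b →
      ∃ u, u ≠ 0 ∧ IsSquare u ∧ ∀ t, h • P t = P (u * t))
    {s : G} (hsa : s • a = b) (hsb : s • b = a) {e : F} (he0 : e ≠ 0)
    (hst : ∀ t, t ≠ 0 → s • P t = P (-(e * e) / t)) :
    Nonempty (G ≃* Matrix.ProjectiveSpecialLinearGroup (Fin 2) F) := by
  classical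
  haveI := hZ.1
  -- the comparison with `PSL(2, F)`
  let ι : ℙ F (Fin 2 → F) → Ω := fun x =>
    if h : ∃ t, x = linePt t then P h.choose else a
  have hιi : ι lineInf = a := dif_neg fun ⟨t, ht⟩ => lineInf_ne_linePt t ht
  have hιp : ∀ t, ι (linePt t) = P t := fun t => by
    have h : ∃ u, (linePt t : ℙ F (Fin 2 → F)) = linePt u := ⟨t, rfl⟩
    show dite _ _ _ = _
    rw [dif_pos h, ← linePt_inj h.choose_spec]
  have hιsurj : ∀ y, ∃ x, ι x = y := fun y => by
    by_cases hy : y = a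
    · exact ⟨lineInf, hιi.trans hy.symm⟩
    · obtain ⟨t, ht⟩ := hPsurj y hy
      exact ⟨linePt t, (hιp t).trans ht⟩
  have hιinj : Function.Injective ι := by
    intro x y h
    rcases line_cases x with rfl | ⟨t, rfl⟩ <;> rcases line_cases y with rfl | ⟨u, rfl⟩
    · rfl
    · rw [hιi, hιp] at h; exact absurd h.symm (hPa u)
    · rw [hιi, hιp] at h; exact absurd h (hPa t)
    · rw [hιp, hιp] at h; rw [hPinj h]
  let π := Matrix.ProjectiveSpecialLinearGroup.toPGL (n := Fin 2) (R := F)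
  let Comp : G → Matrix.ProjectiveSpecialLinearGroup (Fin 2) F → Prop :=
    fun g u => ∀ x, g • ι x = ι (π u • x)
  have hCmul : ∀ g h u v, Comp g u → Comp h v → Comp (g * h) (u * v) := fun g h u v hg hh x => by
    rw [mul_smul, map_mul, mul_smul, hh, hg]
  let S : Subgroup G :=
    { carrier := {g | ∃ u, Comp g u}
      one_mem' := ⟨1, fun x => by rw [map_one, one_smul, one_smul]⟩
      mul_mem' := fun {g h} ⟨u, hu⟩ ⟨v, hv⟩ => ⟨u * v, hCmul g h u v hu hv⟩
      inv_mem' := fun {g} ⟨u, hu⟩ => ⟨u⁻¹, fun x => by rw [inv_smul_eq_iff, hu, map_inv, smul_inv_smul]⟩ }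
  have hext : ∀ {g : G} (A : Matrix.SpecialLinearGroup (Fin 2) F),
      g • a = ι (Matrix.ProjGenLinGroup.mk (Matrix.SpecialLinearGroup.toGL A) • lineInf) →
      (∀ t, g • P t = ι (Matrix.ProjGenLinGroup.mk (Matrix.SpecialLinearGroup.toGL A) • linePt t)) → g ∈ S := by
    intro g A h1 h2
    refine ⟨QuotientGroup.mk A, fun x => ?_⟩
    rcases line_cases x with rfl | ⟨t, rfl⟩
    · rw [hιi]; exact h1
    · rw [hιp]; exact h2 t
  have hH : ∀ h : G, h • a = a → h • b = b → h ∈ S := by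
    intro h ha hb
    obtain ⟨u, hu0, ⟨w, hw⟩, hu⟩ := hmul h ha hb
    have hw0 : w ≠ 0 := fun e => hu0 (by rw [hw, e, mul_zero])
    refine hext ⟨!![w, 0; 0, w⁻¹], by simp [Matrix.det_fin_two, hw0]⟩ ?_ fun t => ?_
    · rw [ha, lineInf, Projectivization.PGL.mk_smul_mk]
      refine hιi.symm.trans (congrArg ι ?_)
      rw [lineInf, Projectivization.mk_eq_mk_iff']
      refine ⟨w⁻¹, ?_⟩
      ext i
      fin_cases i <;> simp [Units.smul_def, Matrix.SpecialLinearGroup.toGL, Matrix.smul_eq_mulVec, Matrix.mulVec, dotProduct, Fin.sum_univ_two, hw0]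
    · rw [hu, ← hιp, linePt, linePt, Projectivization.PGL.mk_smul_mk]
      refine congrArg ι ?_
      rw [Projectivization.mk_eq_mk_iff']
      refine ⟨w, ?_⟩
      ext i
      fin_cases i <;> simp [Units.smul_def, Matrix.SpecialLinearGroup.toGL, Matrix.smul_eq_mulVec, Matrix.mulVec, dotProduct, Fin.sum_univ_two, hw, hw0] <;> ring
  have hK : ∀ t, ∃ k ∈ S, k • a = a ∧ k • b = P t := by
    intro t
    obtain ⟨k, hka, hk⟩ := htrans t
    refine ⟨k, hext ⟨!![1, t; 0, 1], by simp [Matrix.det_fin_two]⟩ ?_ fun u => ?_, hka,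
      by rw [← hP0, hk, zero_add]⟩
    · rw [hka, lineInf, Projectivization.PGL.mk_smul_mk]
      refine hιi.symm.trans (congrArg ι ?_)
      rw [lineInf, Projectivization.mk_eq_mk_iff']
      refine ⟨1, ?_⟩
      ext i
      fin_cases i <;> simp [Units.smul_def, Matrix.SpecialLinearGroup.toGL, Matrix.smul_eq_mulVec, Matrix.mulVec, dotProduct, Fin.sum_univ_two]
    · rw [hk, ← hιp, linePt, linePt, Projectivization.PGL.mk_smul_mk]
      refine congrArg ι ?_
      rw [Projectivization.mk_eq_mk_iff']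
      refine ⟨1, ?_⟩
      ext i
      fin_cases i <;> simp [Units.smul_def, Matrix.SpecialLinearGroup.toGL, Matrix.smul_eq_mulVec, Matrix.mulVec, dotProduct, Fin.sum_univ_two]
  have hs : s ∈ S := by
    refine hext ⟨!![0, e; -e⁻¹, 0], by simp [Matrix.det_fin_two, he0]⟩ ?_ fun t => ?_
    · rw [hsa, ← hP0, ← hιp, lineInf, Projectivization.PGL.mk_smul_mk]
      refine congrArg ι ?_
      rw [linePt, Projectivization.mk_eq_mk_iff']
      refine ⟨-e, ?_⟩
      ext i
      fin_cases i <;> simp [Units.smul_def, Matrix.SpecialLinearGroup.toGL, Matrix.smul_eq_mulVec, Matrix.mulVec, dotProduct, Fin.sum_univ_two, he0]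
    · by_cases ht : t = 0
      · subst ht
        rw [hP0, hsb, linePt, Projectivization.PGL.mk_smul_mk]
        refine hιi.symm.trans (congrArg ι ?_)
        rw [lineInf, Projectivization.mk_eq_mk_iff']
        refine ⟨e⁻¹, ?_⟩
        ext i
        fin_cases i <;> simp [Units.smul_def, Matrix.SpecialLinearGroup.toGL, Matrix.smul_eq_mulVec, Matrix.mulVec, dotProduct, Fin.sum_univ_two, he0]
      · rw [hst t ht, ← hιp, linePt, linePt, Projectivization.PGL.mk_smul_mk]
        refine congrArg ι ?_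
        rw [Projectivization.mk_eq_mk_iff']
        refine ⟨-(e * t⁻¹), ?_⟩
        ext i
        fin_cases i <;> simp [Units.smul_def, Matrix.SpecialLinearGroup.toGL, Matrix.smul_eq_mulVec, Matrix.mulVec, dotProduct, Fin.sum_univ_two] <;>
          field_simp
  have hStop : ∀ g : G, g ∈ S := by
    have hfixa : ∀ g : G, g • a = a → g ∈ S := by
      intro g hg
      obtain ⟨t, ht⟩ := hPsurj (g • b) (fun e => hab.symm (MulAction.injective g (e.trans hg.symm)))
      obtain ⟨k, hk, hka, hkb⟩ := hK t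
      have h1 : k⁻¹ * g ∈ S := hH _ (by rw [mul_smul, hg, inv_smul_eq_iff, hka])
        (by rw [mul_smul, ← ht, inv_smul_eq_iff, hkb])
      simpa using S.mul_mem hk h1
    intro g
    by_cases hg : g • a = a
    · exact hfixa g hg
    obtain ⟨t, ht⟩ := hPsurj (g • a) hg
    obtain ⟨k, hk, hka, hkb⟩ := hK t
    have h1 : (k * s)⁻¹ * g ∈ S := hfixa _ (by
      rw [mul_smul, inv_smul_eq_iff, mul_smul, hsa, hkb, ht])
    simpa [mul_assoc] using S.mul_mem (S.mul_mem hk hs) h1
  obtain ⟨-, hpgl⟩ := CfsgLib.Classical.pgl_two_sharply_three_transitive (F := F)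
  have h01 : (linePt 0 : ℙ F (Fin 2 → F)) ≠ linePt 1 := fun e => zero_ne_one (linePt_inj e)
  have huniq : ∀ g u v, Comp g u → Comp g v → u = v := by
    intro g u v hu hv
    have key : ∀ x : ℙ F (Fin 2 → F), (π (v⁻¹ * u)) • x = x := fun x => by
      rw [map_mul, map_inv, mul_smul, inv_smul_eq_iff]; exact hιinj ((hu x).symm.trans (hv x))
    have h1 := hpgl _ lineInf (linePt 0) (linePt 1) (lineInf_ne_linePt 0)
      (lineInf_ne_linePt 1) h01 (key _) (key _) (key _)
    have h2 : v⁻¹ * u = 1 := Matrix.ProjectiveSpecialLinearGroup.toPGL_injective (h1.trans (map_one π).symm)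
    exact (inv_mul_eq_one.mp h2).symm
  choose Φ hΦ using hStop
  have hΦmul : ∀ g h, Φ (g * h) = Φ g * Φ h := fun g h =>
    huniq _ _ _ (hΦ _) (hCmul g h _ _ (hΦ g) (hΦ h))
  have hΦinj : Function.Injective (MonoidHom.mk' Φ hΦmul) := fun g h (e : Φ g = Φ h) => by
    refine eq_of_smul_eq_smul (α := Ω) fun y => ?_
    obtain ⟨x, rfl⟩ := hιsurj y
    rw [hΦ g x, hΦ h x, e]
  haveI : Finite (Matrix.ProjectiveSpecialLinearGroup (Fin 2) F) := Quotient.finite _
  refine ⟨MulEquiv.ofBijective (MonoidHom.mk' Φ hΦmul)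
    ((Nat.bijective_iff_injective_and_card _).mpr ⟨hΦinj, ?_⟩)⟩
  have h1 := gcd_mul_card_PSL hF
  rw [Nat.gcd_eq_left (show 2 ∣ p ^ j - 1 by omega), hdj, Nat.add_sub_cancel] at h1
  rw [← CfsgLib.Char.Zassenhaus.card_group hZ hab, hΩ, hdj, Nat.add_sub_cancel]
  apply Nat.eq_of_mul_eq_mul_left two_pos
  rw [h1]
  ring

end CfsgLib.SmallGroups.ZassenhausHalf
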