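import Mathlib

/-!
Coordinates for a group with an abelian regular kernel `K` of order `q` and an abelian two-point
stabiliser of order `(q - 1) / 2` without fixed points: a field of order `q` in which the two-point
stabiliser consists of the multiplications by squares.
-/

set_option autoImplicit false

namespace CfsgLib.SmallGroups.ZassenhausHalf

open MulAction

theorem exists_half_coordinates {G Ω : Type*} [Group G] [Finite G] [MulAction G Ω] [Finite Ω] {a b c : Ω}
    (hab : a ≠ b) (hac : a ≠ c) (hbc : b ≠ c) {p j d : ℕ} (hp : p.Prime) (hp2 : p ≠ 2)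
    (hΩ : Nat.card Ω = p ^ j + 1) (hdj : p ^ j = 2 * d + 1) (hd0 : 0 < d)
    (K : Subgroup G) (hKa : ∀ k ∈ K, k • a = a) (hKc : ∀ x ∈ K, ∀ y ∈ K, x * y = y * x)
    (hKn : ∀ g : G, g • a = a → ∀ k ∈ K, g * k * g⁻¹ ∈ K)
    (hKtr : ∀ x y : Ω, x ≠ a → y ≠ a → ∃ k ∈ K, k • x = y)
    (hKfree : ∀ k ∈ K, ∀ x : Ω, x ≠ a → k • x = x → k = 1)
    (hcard : Nat.card ↥(stabilizer G a ⊓ stabilizer G b) = d)
    (hfree : ∀ g : G, g • a = a → g • b = b → ∀ x, x ≠ a → x ≠ b → g • x = x → g = 1)
    (hcomm : ∀ g h : G, g • a = a → g • b = b → h • a = a → h • b = b → g * h = h * g) :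
    ∃ (F : Type) (_ : Field F) (_ : Fintype F) (P : F → Ω), Fintype.card F = p ^ j ∧
      ringChar F ≠ 2 ∧ Function.Injective P ∧ (∀ t, P t ≠ a) ∧
      (∀ x, x ≠ a → ∃ t, P t = x) ∧ P 0 = b ∧ P 1 = c ∧
      (∀ t, ∃ k : G, k • a = a ∧ ∀ u, k • P u = P (u + t)) ∧
      (∀ h : G, h • a = a → h • b = b → ∃ t, t ≠ 0 ∧ IsSquare t ∧ ∀ u, h • P u = P (t * u)) ∧
      ∀ t, t ≠ 0 → IsSquare t → ∃ h : G, h • a = a ∧ h • b = b ∧ ∀ u, h • P u = P (t * u) := by
  classical
  haveI : Fact p.Prime := ⟨hp⟩
  letI : CommGroup K :=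
    { (inferInstance : Group K) with mul_comm := fun x y => Subtype.ext (hKc _ x.2 _ y.2) }
  let M := Additive K
  let pt : M → Ω := fun m => ((Additive.toMul m : K) : G) • b
  have hpt_a : ∀ m, pt m ≠ a := fun m e =>
    hab (MulAction.injective ((Additive.toMul m : K) : G) (e.trans (hKa _ (Additive.toMul m).2).symm)).symm
  have hpt_inj : Function.Injective pt := by
    intro m n h
    have h1 : ((Additive.toMul m)⁻¹ * Additive.toMul n : K).1 • b = b := by
      show (((Additive.toMul m : K) : G)⁻¹ * ((Additive.toMul n : K) : G)) • b = b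
      rw [mul_smul]
      show ((Additive.toMul m : K) : G)⁻¹ • pt n = b
      rw [← h, inv_smul_smul]
    have h2 : ((Additive.toMul m)⁻¹ * Additive.toMul n : K) = 1 :=
      Subtype.ext (hKfree _ ((Additive.toMul m)⁻¹ * Additive.toMul n : K).2 b hab.symm h1)
    exact Additive.toMul.injective (inv_mul_eq_one.mp h2)
  have hpt_surj : ∀ x, x ≠ a → ∃ m, pt m = x := fun x hx => by
    obtain ⟨k, hk, hkx⟩ := hKtr b x hab.symm hx
    exact ⟨Additive.ofMul ⟨k, hk⟩, hkx⟩
  have hpt0 : pt 0 = b := one_smul G b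
  let H : Subgroup G := stabilizer G a ⊓ stabilizer G b
  let conj : H → AddMonoid.End M := fun h =>
    { toFun := fun m => Additive.ofMul (⟨(h : G) * ((Additive.toMul m : K) : G) * (h : G)⁻¹,
        hKn (h : G) h.2.1 _ (Additive.toMul m).2⟩ : K)
      map_zero' := by
        apply Additive.toMul.injective
        refine Subtype.ext ?_
        show (h : G) * ((1 : K) : G) * (h : G)⁻¹ = ((1 : K) : G)
        rw [Subgroup.coe_one, mul_one, mul_inv_cancel]
      map_add' := fun m n => by
        apply Additive.toMul.injective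
        refine Subtype.ext ?_
        show (h : G) * ((Additive.toMul m * Additive.toMul n : K) : G) * (h : G)⁻¹ =
          ((h : G) * ((Additive.toMul m : K) : G) * (h : G)⁻¹) *
            ((h : G) * ((Additive.toMul n : K) : G) * (h : G)⁻¹)
        rw [Subgroup.coe_mul]
        group }
  have hconj : ∀ (h : H) m, pt (conj h m) = (h : G) • pt m := fun h m => by
    show ((h : G) * ((Additive.toMul m : K) : G) * (h : G)⁻¹) • b = (h : G) • _
    rw [mul_smul, mul_smul, inv_smul_eq_iff.mpr h.2.2.symm]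
  have hconj1 : conj 1 = 1 := AddMonoidHom.ext fun m => hpt_inj
    ((hconj 1 m).trans (one_smul G (pt m)))
  have hconjm : ∀ g h : H, conj (g * h) = conj g * conj h := fun g h => AddMonoidHom.ext fun m =>
    hpt_inj (by
      show pt (conj (g * h) m) = pt (conj g (conj h m))
      rw [hconj, hconj, hconj, Subgroup.coe_mul, mul_smul])
  have hHcomm : ∀ x ∈ Set.range conj, ∀ y ∈ Set.range conj, x * y = y * x := by
    rintro _ ⟨g, rfl⟩ _ ⟨h, rfl⟩
    rw [← hconjm, ← hconjm]
    exact congrArg conj (Subtype.ext (hcomm _ _ g.2.1 g.2.2 h.2.1 h.2.2))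
  set R := Subring.closure (Set.range conj) with hR
  letI : CommRing R := Subring.closureCommRingOfComm hHcomm
  let ι : H → R := fun h => ⟨conj h, Subring.subset_closure ⟨h, rfl⟩⟩
  -- sizes
  have hcardM : Nat.card M = p ^ j := by
    cases nonempty_fintype Ω
    have e : M ≃ {x : Ω // x ≠ a} := Equiv.ofBijective (fun m => ⟨pt m, hpt_a m⟩)
      ⟨fun m n h => hpt_inj (congrArg Subtype.val h), fun x => by
        obtain ⟨m, hm⟩ := hpt_surj x.1 x.2
        exact ⟨m, Subtype.ext hm⟩⟩
    rw [Nat.card_congr e, Nat.card_eq_fintype_card, Fintype.card_subtype_compl, Fintype.card_subtype_eq,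
      ← Nat.card_eq_fintype_card, hΩ]
    omega
  haveI : Finite M := Nat.finite_of_card_ne_zero (by rw [hcardM]; exact pow_ne_zero _ hp.ne_zero)
  -- invariant subgroups
  have hinv : ∀ W : AddSubgroup M, (∀ h : H, ∀ w ∈ W, conj h w ∈ W) → W = ⊥ ∨ W = ⊤ := by
    intro W hW
    by_cases htop : W = ⊤
    · exact Or.inr htop
    left
    letI : MulAction H {w : W // w ≠ 0} :=
      { smul := fun h w => ⟨⟨conj h w.1.1, hW h _ w.1.2⟩, fun e => w.2 (Subtype.ext (hpt_inj (by
            have h1 : pt (conj h w.1.1) = pt 0 := congrArg pt (congrArg Subtype.val e)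
            rw [hconj, hpt0] at h1
            rw [ZeroMemClass.coe_zero, hpt0]
            exact (MulAction.injective (h : G) (h1.trans h.2.2.symm)))))⟩
        one_smul := fun w => Subtype.ext (Subtype.ext (DFunLike.congr_fun hconj1 w.1.1))
        mul_smul := fun g h w => Subtype.ext (Subtype.ext (DFunLike.congr_fun (hconjm g h) w.1.1)) }
    have hst : ∀ w : {w : W // w ≠ 0}, stabilizer H w = ⊥ := by
      intro w
      rw [Subgroup.eq_bot_iff_forall]
      intro h hh
      have h1 : conj h w.1.1 = w.1.1 := congrArg (fun v : {w : W // w ≠ 0} => v.1.1) hh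
      refine Subtype.ext (hfree h h.2.1 h.2.2 (pt w.1.1) (hpt_a _) (fun e => w.2 (Subtype.ext (hpt_inj ?_))) ?_)
      · rw [ZeroMemClass.coe_zero, hpt0, e]
      · rw [← hconj, h1]
    have hdvd : d ∣ Nat.card {w : W // w ≠ 0} := by
      rw [← hcard, Nat.card_congr (MulAction.selfEquivOrbitsQuotientProd hst), Nat.card_prod]
      exact dvd_mul_left _ _
    haveI := Fintype.ofFinite W
    rw [Nat.card_eq_fintype_card, Fintype.card_subtype_compl, Fintype.card_subtype_eq,
      ← Nat.card_eq_fintype_card] at hdvd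
    have h1 : Nat.card W ∣ p ^ j := hcardM ▸ AddSubgroup.card_addSubgroup_dvd_card W
    obtain ⟨w, hw⟩ := h1
    have hw2 : p ≤ w := by
      obtain ⟨i, -, rfl⟩ := (Nat.dvd_prime_pow hp).mp (Dvd.intro_left _ hw.symm)
      refine le_self_pow₀ hp.one_lt.le fun h => htop ?_
      rw [h, pow_zero, mul_one] at hw
      exact AddSubgroup.eq_top_of_card_eq W (by rw [← hw, hcardM])
    have h3 : Nat.card W * 3 ≤ p ^ j := by
      rw [hw]; exact Nat.mul_le_mul_left _ (by have := hp.two_le; omega)
    refine AddSubgroup.eq_bot_of_card_eq W ?_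
    have h4 : 0 < Nat.card W := Nat.card_pos
    rcases Nat.eq_zero_or_pos (Nat.card W - 1) with h5 | h5
    · omega
    · have := Nat.le_of_dvd h5 hdvd
      omega
  have hcommR : ∀ (r : R) (h : H) (m : M), (r : AddMonoid.End M) (conj h m) = conj h ((r : AddMonoid.End M) m) :=
    fun r h m => DFunLike.congr_fun (congrArg Subtype.val (mul_comm r (ι h))) m
  have hker : ∀ r : R, r ≠ 0 → ∀ m, (r : AddMonoid.End M) m = 0 → m = 0 := by
    intro r hr m hm
    rcases hinv (AddMonoidHom.ker (r : AddMonoid.End M)) (fun h w hw => by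
      show (r : AddMonoid.End M) (conj h w) = 0
      rw [hcommR r h w, show (r : AddMonoid.End M) w = 0 from hw, map_zero]) with h | h
    · have hmem : m ∈ AddMonoidHom.ker (r : AddMonoid.End M) := hm
      rwa [h, AddSubgroup.mem_bot] at hmem
    · exfalso
      refine hr (Subtype.ext (AddMonoidHom.ext fun x => ?_))
      have hmem : x ∈ AddMonoidHom.ker (r : AddMonoid.End M) := by rw [h]; trivial
      exact hmem
  obtain ⟨one', hone⟩ := hpt_surj c hac.symm
  have hone0 : one' ≠ 0 := fun e => hbc ((hpt0.symm.trans (congrArg pt e.symm)).trans hone)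
  let ev : R →+ M :=
    { toFun := fun r => (r : AddMonoid.End M) one'
      map_zero' := rfl
      map_add' := fun _ _ => rfl }
  have hevinj : Function.Injective ev := by
    rw [injective_iff_map_eq_zero]
    intro r hr
    by_contra h
    exact hone0 (hker r h one' hr)
  have hevsurj : Function.Surjective ev := by
    refine AddMonoidHom.range_eq_top.mp ((hinv ev.range ?_).resolve_left fun h => ?_)
    · rintro g _ ⟨r, rfl⟩
      exact ⟨ι g * r, rfl⟩
    · have h1 : ev 1 ∈ (⊥ : AddSubgroup M) := h ▸ ⟨1, rfl⟩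
      exact hone0 (AddSubgroup.mem_bot.mp h1)
  haveI : Finite R := Finite.of_injective ev hevinj
  have hcardR : Nat.card R = p ^ j := by rw [Nat.card_congr (Equiv.ofBijective ev ⟨hevinj, hevsurj⟩), hcardM]
  haveI : Nontrivial R := by
    rw [← Finite.one_lt_card_iff_nontrivial, hcardR, hdj]; omega
  haveI : NoZeroDivisors R := ⟨fun {r r'} h => by
    by_cases hr : r = 0
    · exact Or.inl hr
    · refine Or.inr (hevinj ?_)
      rw [map_zero]
      exact hker r hr _ (DFunLike.congr_fun (congrArg Subtype.val h) one')⟩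
  haveI : IsDomain R := NoZeroDivisors.to_isDomain R
  have hfield : IsField R := Finite.isField_of_domain R
  letI : Field R := hfield.toField
  letI : Fintype (GaloisField p j) := Fintype.ofFinite _
  letI : Fintype R := Fintype.ofFinite _
  have hj : j ≠ 0 := fun h => by rw [h, pow_zero] at hdj; omega
  have hGF : Fintype.card (GaloisField p j) = p ^ j := by
    rw [← Nat.card_eq_fintype_card, GaloisField.card p j hj]
  have hcF : Fintype.card (GaloisField p j) = Fintype.card R := by
    rw [hGF, ← hcardR, Nat.card_eq_fintype_card]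
  let θ : GaloisField p j ≃+* R := FiniteField.ringEquivOfCardEq hcF
  have hchar : ringChar (GaloisField p j) ≠ 2 := by rw [ringChar.eq (GaloisField p j) p]; exact hp2
  -- the multipliers
  let τ : H →* GaloisField p j :=
    { toFun := fun h => θ.symm (ι h)
      map_one' := by rw [show ι 1 = 1 from Subtype.ext hconj1, map_one]
      map_mul' := fun g h => by rw [show ι (g * h) = ι g * ι h from Subtype.ext (hconjm g h), map_mul] }
  let P : GaloisField p j → Ω := fun t => pt (ev (θ t))
  have hP1 : P 1 = c := by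
    show pt (ev (θ 1)) = c
    rw [map_one]
    exact hone
  have hP0 : P 0 = b := by
    show pt (ev (θ 0)) = b
    rw [map_zero, map_zero, hpt0]
  have hact : ∀ (h : H) u, (h : G) • P u = P (τ h * u) := fun h u => by
    show _ = pt (ev (θ (θ.symm (ι h) * u)))
    rw [map_mul, RingEquiv.apply_symm_apply, ← hconj]
    rfl
  have hτ0 : ∀ h, τ h ≠ 0 := fun h e => by
    have := hact h 1
    rw [mul_one, e, hP0, hP1] at this
    exact hbc.symm (MulAction.injective (h : G) (this.trans h.2.2.symm))
  have hτinj : Function.Injective τ := by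
    intro g h e
    have h1 := hact g 1
    rw [e, ← hact h 1, hP1] at h1
    refine Subtype.ext (inv_mul_eq_one.mp (hfree ((h : G)⁻¹ * g) ?_ ?_ c hac.symm hbc.symm ?_)).symm
    · rw [mul_smul, g.2.1, inv_smul_eq_iff, h.2.1]
    · rw [mul_smul, g.2.2, inv_smul_eq_iff, h.2.2]
    · rw [mul_smul, h1, inv_smul_smul]
  have hhalf : Fintype.card (GaloisField p j) / 2 = d := by rw [hGF, hdj]; omega
  have hsq : ∀ t : GaloisField p j, t ≠ 0 → (IsSquare t ↔ t ^ d = 1) := fun t ht => by
    rw [FiniteField.isSquare_iff hchar ht, hhalf]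
  have hτd : ∀ h, τ h ^ d = 1 := fun h => by rw [← map_pow, ← hcard, pow_card_eq_one', map_one]
  have hτsurj : ∀ t, t ^ d = 1 → ∃ h, τ h = t := by
    intro t ht
    haveI := Fintype.ofFinite H
    have h1 : Finset.univ.image τ ⊆ Polynomial.nthRootsFinset d (1 : GaloisField p j) := fun x hx => by
      obtain ⟨h, -, rfl⟩ := Finset.mem_image.mp hx
      exact (Polynomial.mem_nthRootsFinset hd0 1).mpr (hτd h)
    have h2 : (Polynomial.nthRootsFinset d (1 : GaloisField p j)).card ≤ (Finset.univ.image τ).card := by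
      rw [Finset.card_image_of_injective _ hτinj, Finset.card_univ, ← Nat.card_eq_fintype_card, hcard,
        Polynomial.nthRootsFinset_def]
      exact (Multiset.toFinset_card_le _).trans (Polynomial.card_nthRoots d 1)
    have h3 := (Polynomial.mem_nthRootsFinset hd0 (1 : GaloisField p j)).mpr ht
    rw [← Finset.eq_of_subset_of_card_le h1 h2, Finset.mem_image] at h3
    obtain ⟨h, -, hh⟩ := h3
    exact ⟨h, hh⟩
  refine ⟨GaloisField p j, inferInstance, inferInstance, P, hGF, hchar,
    fun t u h => θ.injective (hevinj (hpt_inj h)), fun t => hpt_a _, fun x hx => ?_, hP0, hP1,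
    fun t => ?_, fun h ha hb => ⟨τ ⟨h, ha, hb⟩, hτ0 _, (hsq _ (hτ0 _)).mpr (hτd _), hact ⟨h, ha, hb⟩⟩,
    fun t ht hts => ?_⟩
  · obtain ⟨m, hm⟩ := hpt_surj x hx
    obtain ⟨r, hr⟩ := hevsurj m
    exact ⟨θ.symm r, by show pt (ev (θ (θ.symm r))) = x; rw [RingEquiv.apply_symm_apply, hr, hm]⟩
  · refine ⟨((Additive.toMul (ev (θ t)) : K) : G), hKa _ (Additive.toMul (ev (θ t))).2, fun u => ?_⟩
    show _ • pt (ev (θ u)) = pt (ev (θ (u + t)))
    rw [map_add, add_comm (θ u), map_add]
    show _ • _ • b = (((Additive.toMul (ev (θ t)) * Additive.toMul (ev (θ u)) : K)) : G) • b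
    rw [Subgroup.coe_mul, mul_smul]
  · obtain ⟨g, rfl⟩ := hτsurj t ((hsq t ht).mp hts)
    exact ⟨g, g.2.1, g.2.2, hact g⟩

end CfsgLib.SmallGroups.ZassenhausHalf
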