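import Cfsg.Agent.Lib.SmallGroups.ZassenhausHalf.Swap
import Cfsg.Agent.Lib.SmallGroups.ZassenhausHalf.Coordinates
import Cfsg.Agent.Lib.Char.Zassenhaus
import Cfsg.Agent.Lib.SmallGroups.ZassenhausHalf.Compare
import Cfsg.Agent.S0738
import Mathlib

/-!
A Zassenhaus group of degree `q + 1` with two-point stabilisers of even order `(q - 1) / 2` is
`PSL(2, q)`.
-/

set_option autoImplicit false

namespace CfsgLib.SmallGroups.ZassenhausHalf

open MulAction CfsgLib.Transfer

/-- In a finite field of odd order some non-square has a square successor. -/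
theorem exists_nonsquare_succ_square {F : Type*} [Field F] [Fintype F] (hF : ringChar F ≠ 2) :
    ∃ z : F, ¬ IsSquare z ∧ IsSquare (z + 1) := by
  classical
  obtain ⟨ν, hν⟩ := FiniteField.exists_nonsquare hF
  by_contra hcon
  push Not at hcon
  have h1 : ∀ t : F, IsSquare t → IsSquare (t - 1) := fun t ht => by
    by_contra h
    exact hcon (t - 1) h (by rwa [sub_add_cancel])
  -- the squares form an additive subgroup
  have hneg : IsSquare (-1 : F) := by simpa using h1 0 IsSquare.zero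
  have hsub : ∀ s t : F, IsSquare s → IsSquare t → IsSquare (s - t) := by
    intro s t hs ht
    by_cases h0 : t = 0
    · rwa [h0, sub_zero]
    · rw [show s - t = t * (s / t - 1) by field_simp]
      exact ht.mul (h1 _ (hs.div ht))
  have hadd : ∀ s t : F, IsSquare s → IsSquare t → IsSquare (s + t) := fun s t hs ht => by
    have := hsub s (-t) hs (by rw [← neg_one_mul]; exact hneg.mul ht)
    rwa [sub_neg_eq_add] at this
  have h2 : (2 : F) ≠ 0 := Ring.two_ne_zero hF
  -- every element is a difference of two squares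
  refine hν ?_
  have := hsub (((ν + 1) / 2) ^ 2) (((ν - 1) / 2) ^ 2) (IsSquare.sq _) (IsSquare.sq _)
  convert this using 1
  field_simp
  ring

set_option maxHeartbeats 1600000 in
/-- The recognition. -/
theorem nonempty_psl_of_half {G Ω : Type*} [Group G] [Finite G] [MulAction G Ω] [Fintype Ω]
    (hZ : Cfsg.IsZassenhausGroup G Ω) {a b : Ω} (hab : a ≠ b)
    (heven : Even (Nat.card ↥(stabilizer G a ⊓ stabilizer G b)))
    (hd : 2 * Nat.card ↥(stabilizer G a ⊓ stabilizer G b) = Fintype.card Ω - 2) :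
    ∃ (p f : ℕ) (K : Type) (_ : Field K) (_ : Fintype K), p.Prime ∧ p ≠ 2 ∧ Fintype.card K = p ^ f ∧
      Fintype.card Ω = p ^ f + 1 ∧ Nonempty (G ≃* Matrix.ProjectiveSpecialLinearGroup (Fin 2) K) := by
  classical
  haveI := hZ.1
  set D := stabilizer G a ⊓ stabilizer G b with hD
  have hthree := hZ.2.2.1
  -- the kernel
  obtain ⟨K, hKa, hKcard, hKfix⟩ := CfsgLib.Char.Zassenhaus.exists_kernel hZ hab
  have hn := CfsgLib.Char.Zassenhaus.three_le_points hZ hab
  have hKreg : ∀ y z : Ω, y ≠ a → z ≠ a → ∃! u : K, (u : G) • y = z := by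
    intro y z hy hz
    obtain ⟨h1, h2⟩ := CfsgLib.Char.Zassenhaus.bijective_smul hZ (Ne.symm hy) hKa hKcard hKfix
    obtain ⟨u, hu⟩ := h2 ⟨z, hz⟩
    exact ⟨u, congrArg Subtype.val hu, fun v hv => h1 (Subtype.ext (hv.trans (congrArg Subtype.val hu).symm))⟩
  have hKn : ∀ g : G, g • a = a → ∀ k ∈ K, g * k * g⁻¹ ∈ K := fun g hg k hk =>
    CfsgLib.Char.Zassenhaus.conj_mem_kernel hZ hab hKa hKcard hKfix hg hk
  have hKN : (K.subgroupOf (stabilizer G a)).Normal :=
    ⟨fun n hn g => Subgroup.mem_subgroupOf.mpr (hKn g g.2 n (Subgroup.mem_subgroupOf.mp hn))⟩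
  obtain ⟨hKc, p, j, hp, -, hΩ⟩ := Cfsg.Agent.S0738.result hZ hab (le_of_eq hd.symm) K hKa hKN hKreg
  have hd0 : 0 < Nat.card D := Nat.card_pos
  obtain ⟨d₂, hd₂⟩ := heven
  have hdj : p ^ j = 2 * Nat.card D + 1 := by omega
  have hp2 : p ≠ 2 := by
    intro h
    subst h
    rcases Nat.eq_zero_or_pos j with h0 | h0
    · rw [h0, pow_zero] at hdj; omega
    · have : 2 ∣ 2 ^ j := dvd_pow_self 2 h0.ne'
      omega
  -- a swap with a fixed point
  obtain ⟨s, hsa, hsb⟩ := (MulAction.is_two_pretransitive_iff).mp hZ.2.1 hab hab.symm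
  obtain ⟨hss, c, hca, hcb, hsc⟩ := swap_fix hZ hab ⟨d₂, hd₂⟩ hd hsa hsb
  obtain ⟨hinv, hcomm⟩ := swap_inverts_even hZ hab ⟨d₂, hd₂⟩ hd hsa hsb
  obtain ⟨F, iF, iF', P, hF, hchar, hPinj, hPa, hPsurj, hP0, hP1, htrans, hmul, hmul'⟩ :=
    exists_half_coordinates hab hca.symm hcb.symm hp hp2 (by rw [Nat.card_eq_fintype_card, hΩ]) hdj hd0 K
      (fun k hk => hKa hk) (fun x hx y hy => congrArg Subtype.val (mul_comm' (⟨x, hx⟩ : K) ⟨y, hy⟩)) hKn
      (fun x y hx hy => by obtain ⟨u, hu, -⟩ := hKreg x y hx hy; exact ⟨u, u.2, hu⟩)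
      (fun k hk x hx h => by by_contra h1; exact hx (hKfix k hk h1 x h)) rfl
      (fun g hga hgb x hxa hxb hx => hthree g a b x hab (Ne.symm hxb) (Ne.symm hxa) hga hgb hx) hcomm
  refine ⟨p, j, F, iF, iF', hp, hp2, hF, hΩ, ?_⟩
  have hneg : IsSquare (-1 : F) := by
    rw [FiniteField.isSquare_neg_one_iff, hF, hdj, hd₂]
    omega
  have hneg0 : (-1 : F) ≠ 0 := neg_ne_zero.mpr one_ne_zero
  -- the inversion
  have hsx : ∀ x : F, x ≠ 0 → ∃ y, y ≠ 0 ∧ s • P x = P y := fun x hx => by
    obtain ⟨y, hy⟩ := hPsurj (s • P x) (fun e => hx (hPinj (by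
      rw [hP0]; exact MulAction.injective s (e.trans hsb.symm))))
    refine ⟨y, fun h => hPa x ?_, hy.symm⟩
    rw [h, hP0] at hy
    exact MulAction.injective s (hy.symm.trans hsa.symm)
  choose f hf0 hf using hsx
  have hff : ∀ x hx, ∀ hy, f (f x hx) hy = x := fun x hx hy => hPinj (by
    rw [← hf, ← hf x hx, ← mul_smul, hss, one_smul])
  have hf1 : f 1 one_ne_zero = 1 := hPinj (by rw [← hf, hP1, hsc])
  have hfsq : ∀ (u x : F) (hu : u ≠ 0) (hx : x ≠ 0), IsSquare u →
      f (u * x) (mul_ne_zero hu hx) = u⁻¹ * f x hx := by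
    intro u x hu hx hus
    obtain ⟨h, hha, hhb, hh⟩ := hmul' u hu hus
    obtain ⟨h', hha', hhb', hh'⟩ := hmul' u⁻¹ (inv_ne_zero hu) hus.inv
    apply hPinj
    rw [← hf, ← hh x, ← mul_smul, show s * h = h⁻¹ * s by rw [← hinv h hha hhb]; group, mul_smul, hf x hx,
      inv_smul_eq_iff, hh, ← mul_assoc, mul_inv_cancel₀ hu, one_mul]
  have hfsquare : ∀ (x : F) (hx : x ≠ 0), IsSquare x → f x hx = x⁻¹ := fun x hx hxs => by
    have := hfsq x 1 hx one_ne_zero hxs
    simp only [mul_one] at this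
    rw [this, hf1, mul_one]
  have hfns : ∀ (x : F) (hx : x ≠ 0), ¬ IsSquare x → ¬ IsSquare (f x hx) := fun x hx hxs h => hxs (by
    rw [← hff x hx (hf0 x hx), hfsquare _ _ h]
    exact h.inv)
  -- the sign of the inversion on the non-squares
  obtain ⟨ν, hν, hν1⟩ := exists_nonsquare_succ_square hchar
  have hν0 : ν ≠ 0 := fun h => hν (h ▸ IsSquare.zero)
  set k := ν * f ν hν0 with hk
  have hfk : ∀ (x : F) (hx : x ≠ 0), ¬ IsSquare x → f x hx = k / x := by
    intro x hx hxs
    have hu : IsSquare (x / ν) := by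
      have h1 := FiniteField.isSquare_iff hchar (div_ne_zero hx hν0)
      rw [h1, div_pow]
      have h2 := (FiniteField.pow_dichotomy hchar hx).resolve_left fun h => hxs ((FiniteField.isSquare_iff hchar hx).mpr h)
      have h3 := (FiniteField.pow_dichotomy hchar hν0).resolve_left fun h => hν ((FiniteField.isSquare_iff hchar hν0).mpr h)
      rw [h2, h3, div_self hneg0]
    have h := hfsq (x / ν) ν (div_ne_zero hx hν0) hν0 hu
    simp only [div_mul_cancel₀ x hν0] at h
    rw [h, hk, inv_div]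
    field_simp
  have hν10 : ν + 1 ≠ 0 := fun h => hν (by rw [eq_neg_of_add_eq_zero_left h]; exact hneg)
  obtain ⟨t₁, ht₁a, ht₁⟩ := htrans 1
  obtain ⟨t₂, ht₂a, ht₂⟩ := htrans (-1)
  have hg : ∀ z : F, (s * t₂ * s * t₁ * s) • P z = P (-z - 1) := by
    set g := s * t₂ * s * t₁ * s with hgdef
    have hga : g • a = a := by
      rw [hgdef, mul_smul, mul_smul, mul_smul, mul_smul, hsa, ← hP0, ht₁, zero_add, hP1, hsc, ← hP1, ht₂,
        add_neg_cancel, hP0, hsb]
    have hgb : g • b = P (-1) := by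
      rw [hgdef, mul_smul, mul_smul, mul_smul, mul_smul, hsb, ht₁a, hsa, ← hP0, ht₂, zero_add, hf (-1) hneg0,
        hfsquare _ _ hneg, inv_neg, inv_one]
    obtain ⟨u, hu0, -, hu⟩ := hmul (t₁ * g) (by rw [mul_smul, hga, ht₁a])
      (by rw [mul_smul, hgb, ht₁, neg_add_cancel, hP0])
    have hgz : ∀ z, g • P z = P (u * z - 1) := fun z => by
      apply MulAction.injective t₁
      show t₁ • g • P z = t₁ • P (u * z - 1)
      rw [← mul_smul, hu, ht₁, sub_add_cancel]
    have h0 : g • P (-1) = P 0 := by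
      rw [hgdef, mul_smul, mul_smul, mul_smul, mul_smul, hf (-1) hneg0, hfsquare _ _ hneg, inv_neg, inv_one,
        ht₁, neg_add_cancel, hP0, hsb, ht₂a, hsa]
    have hu1 : u = -1 := by
      have := hPinj ((hgz (-1)).symm.trans h0)
      linear_combination -this
    intro z
    rw [hgz, hu1, neg_one_mul]
  have hk1 : k = 1 := by
    have h := hg ν
    rw [mul_smul, mul_smul, mul_smul, mul_smul, hf ν hν0, hfk ν hν0 hν, ht₁] at h
    have hm0 : -ν - 1 ≠ 0 := fun e => hν10 (by linear_combination -e)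
    have hw : k / ν + 1 ≠ 0 := fun e => by
      rw [e, hP0, hsb, ht₂a, hsa, ← hP0] at h
      exact hm0 (hPinj h).symm
    rw [hf _ hw, ht₂] at h
    have h2 : f (k / ν + 1) hw + -1 = -(ν + 1)⁻¹ := by
      apply hPinj
      apply MulAction.injective s
      show s • P (f (k / ν + 1) hw + -1) = s • P (-(ν + 1)⁻¹)
      have hsq1 : IsSquare (-(ν + 1)⁻¹) := by rw [← neg_one_mul]; exact hneg.mul hν1.inv
      rw [h, hf _ (neg_ne_zero.mpr (inv_ne_zero hν10)), hfsquare _ _ hsq1]
      congr 1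
      rw [inv_neg, inv_inv]
      ring
    have h3 : f (k / ν + 1) hw = ν / (ν + 1) := by
      rw [show f (k / ν + 1) hw = -(ν + 1)⁻¹ + 1 by linear_combination h2]
      field_simp
      ring
    have hns : ¬ IsSquare (ν / (ν + 1)) := fun e => hν (by
      have := e.mul hν1
      rwa [div_mul_cancel₀ ν hν10] at this)
    have hns' : ¬ IsSquare (k / ν + 1) := fun e => hns (by
      rw [← h3, hfsquare _ _ e]
      exact e.inv)
    rw [hfk _ hw hns'] at h3
    have hkν : k + ν ≠ 0 := fun e => hw (by field_simp; linear_combination e)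
    field_simp at h3
    have : ν * (k - 1) = 0 := by linear_combination h3
    linear_combination (mul_eq_zero.mp this).resolve_left hν0
  have hfinv : ∀ (x : F) (hx : x ≠ 0), f x hx = x⁻¹ := fun x hx => by
    by_cases hxs : IsSquare x
    · exact hfsquare x hx hxs
    · rw [hfk x hx hxs, hk1, one_div]
  obtain ⟨e, he⟩ := hneg
  have he0 : e ≠ 0 := fun h => hneg0 (by rw [he, h, mul_zero])
  exact nonempty_psl_of_coordinates hZ hab hF hΩ hdj hPinj hPa hPsurj hP0 htrans hmul hsa hsb he0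
    fun t ht => by rw [hf t ht, hfinv t ht, ← he, neg_neg, one_div]

end CfsgLib.SmallGroups.ZassenhausHalf
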