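import Cfsg.Agent.Lib.SmallGroups.ZassenhausHalf.Classes
import Cfsg.Agent.Lib.Char.Integral
import Cfsg.Agent.Lib.Char.Linear
import Cfsg.Agent.S0738
import Cfsg.Agent.S0881
import Mathlib

/-!
A simple Zassenhaus group with an abelian kernel of order `h` and two-point stabilisers of odd order
`e < h - 1` has `2 e = h - 1`. The characters without fixed vectors of the kernel are at most `T`
in number, `h = T e + 1`, when `3 ≤ T`, which leaves too few characters for the classes.
-/

set_option autoImplicit false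

namespace CfsgLib.SmallGroups.ZassenhausHalf

open MulAction CfsgLib.Char CfsgLib.Char.Zassenhaus
open scoped ComplexConjugate

/-- A function with two values each taken, or avoided, at least `e` times is far from constant. -/
theorem sq_sum_add_le {ι : Type*} (s : Finset ι) (n : ι → ℕ) (c e : ℕ)
    (h1 : e ≤ (s.filter fun i => n i = c).card) (h2 : e ≤ (s.filter fun i => ¬ n i = c).card) :
    (∑ i ∈ s, n i) ^ 2 + e * (s.card - e) ≤ s.card * ∑ i ∈ s, n i ^ 2 := by
  classical
  have hc := Finset.card_filter_add_card_filter_not (s := s) fun i => n i = c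
  set A := (s.filter fun i => n i = c).card with hA
  set B := (s.filter fun i => ¬ n i = c).card
  have hge : e ≤ s.card := by omega
  zify [hge]
  let x : ι → ℤ := fun i => if n i = c then 1 else 0
  have key : ∀ f : ι → ℤ, ∑ i ∈ s, ∑ j ∈ s, (f i - f j) ^ 2 =
      2 * (s.card : ℤ) * ∑ i ∈ s, f i ^ 2 - 2 * (∑ i ∈ s, f i) ^ 2 := by
    intro f
    simp only [sub_sq, Finset.sum_add_distrib, Finset.sum_sub_distrib, Finset.sum_const,
      nsmul_eq_mul, mul_assoc, ← Finset.mul_sum, ← Finset.sum_mul]
    ring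
  have hle : ∑ i ∈ s, ∑ j ∈ s, (x i - x j) ^ 2 ≤ ∑ i ∈ s, ∑ j ∈ s, ((n i : ℤ) - n j) ^ 2 := by
    refine Finset.sum_le_sum fun i _ => Finset.sum_le_sum fun j _ => ?_
    simp only [x]
    rcases eq_or_ne (n i) (n j) with h | h
    · rw [h]; simp
    · have : (1 : ℤ) ≤ ((n i : ℤ) - n j) ^ 2 := by
        have h0 : (n i : ℤ) - n j ≠ 0 := sub_ne_zero.mpr (by exact_mod_cast h)
        have := pow_two_pos_of_ne_zero h0
        omega
      split_ifs <;> simp only [sub_self, sub_zero, zero_sub, neg_sq, one_pow, ne_eq,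
        OfNat.ofNat_ne_zero, not_false_eq_true, zero_pow] <;>
        first | exact this | exact sq_nonneg _
  rw [key, key] at hle
  have hx1 : ∑ i ∈ s, x i = A := by simp [x, hA]
  have hx2 : ∑ i ∈ s, x i ^ 2 = A := by
    rw [← hx1]
    exact Finset.sum_congr rfl fun i _ => by simp only [x]; split_ifs <;> norm_num
  rw [hx1, hx2] at hle
  have hB : (B : ℤ) = s.card - A := by omega
  have hprod : (0 : ℤ) ≤ ((A : ℤ) - e) * ((B : ℤ) - e) :=
    mul_nonneg (by omega) (by omega)
  rw [hB] at hprod
  nlinarith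

variable {G Ω : Type*} [Group G] [Finite G] [MulAction G Ω] [Fintype Ω]
variable (hZ : Cfsg.IsZassenhausGroup G Ω) {a b : Ω} (hab : a ≠ b) {H : Subgroup G}
  (hHa : H ≤ stabilizer G a) (hHcard : Nat.card H + 1 = Fintype.card Ω)
  (hHfix : ∀ u ∈ H, u ≠ 1 → ∀ c : Ω, u • c = c → c = a)

include hZ hab hHa hHcard hHfix in
/-- The classes are few when `3 ≤ T`. -/
theorem conjClasses_upper [IsSimpleGroup G] (hcomm : ∀ u ∈ H, ∀ v ∈ H, u * v = v * u) {h e E T : ℕ}
    (hh : Nat.card H = h) (he : Nat.card (stabilizer G a ⊓ stabilizer G b : Subgroup G) = e)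
    (hE : e = 2 * E + 1) (hT : h = T * e + 1) (hE1 : 1 ≤ E) (hT3 : 3 ≤ T) :
    Nat.card (ConjClasses G) ≤ 2 + E + T := by
  classical
  have := Fintype.ofFinite G
  have := Fintype.ofFinite H
  have := Fintype.ofFinite (stabilizer G a)
  set D : Subgroup G := stabilizer G a ⊓ stabilizer G b with hDdef
  have := Fintype.ofFinite D
  have hodd : Odd (Nat.card D) := ⟨E, he.trans hE⟩
  have hpre := CfsgLib.Char.Zassenhaus.isPretransitive hZ
  have hΩ : Fintype.card Ω = h + 1 := by rw [← hHcard, hh]
  have hG : Nat.card G = (h + 1) * h * e := by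
    rw [← card_group hZ hab, hΩ, Nat.add_sub_cancel, he]
  have hcardB : Nat.card (stabilizer G a) = h * e := by
    have h1 := card_stabilizer_mul hZ a
    rw [hΩ, hG, mul_assoc] at h1
    exact Nat.eq_of_mul_eq_mul_left (by omega) h1
  have hTe := Nat.mul_le_mul hT3 (show 3 ≤ e by omega)
  have hh0 : (h : ℂ) ≠ 0 := by exact_mod_cast (by omega : h ≠ 0)
  have hHC : ∀ u v : H, u * v = v * u := fun u v => Subtype.ext (hcomm u u.2 v v.2)
  obtain ⟨t, -, hta, htb⟩ := exists_swap hZ hab hodd
  have hDC : ∀ u v : D, u * v = v * u := fun u v =>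
    Subtype.ext ((swap_inverts hZ hab hodd hta htb).2 u u.2 v v.2)
  -- the invariants
  let res : Cfsg.IrrCharacter G → H → ℂ := fun χ u => (χ : G → ℂ) u
  have hres : ∀ χ, Cfsg.IsCharacter H (res χ) := fun χ =>
    isCharacter_res H (isCharacter_of_isIrr χ.2)
  choose d hd using fun χ : Cfsg.IrrCharacter G => exists_degree (isCharacter_of_isIrr χ.2)
  choose k hk using fun χ : Cfsg.IrrCharacter G =>
    classInner_char_nat (hres χ) (isCharacter_one (G := H))
  choose M hM using fun χ : Cfsg.IrrCharacter G => classInner_char_nat (hres χ) (hres χ)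
  have hsumk : ∑ χ, d χ * k χ = (h + 1) * e := by
    have h1 : ∑ χ : Cfsg.IrrCharacter G, (d χ : ℂ) * k χ = ((h + 1) * e : ℕ) := by
      simp only [← hd, ← hk, classInner_def, map_one, mul_one, res, hh]
      simp only [← mul_assoc, Finset.mul_sum]
      rw [Finset.sum_comm]
      simp only [mul_comm ((_ : Cfsg.IrrCharacter G).1 1) ((h : ℂ)⁻¹), mul_assoc,
        ← Finset.mul_sum, sum_degree_mul_apply]
      rw [Finset.sum_congr rfl fun u _ => if_congr OneMemClass.coe_eq_one rfl rfl,
        Finset.sum_ite_eq', if_pos (Finset.mem_univ _), hG]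
      push_cast
      field_simp
    exact_mod_cast h1
  have hsumM : ∑ χ, M χ + 1 = (h + 1) * e + h := by
    have h1 : ∑ χ : Cfsg.IrrCharacter G, (M χ : ℂ) + 1 = ((h + 1) * e + h : ℕ) := by
      simp only [← hM, classInner_def, res, hh, ← Finset.mul_sum]
      rw [Finset.sum_comm]
      simp only [second_orthogonality, IsConj.refl, if_true]
      rw [← Finset.add_sum_erase _ _ (Finset.mem_univ (1 : H)),
        Finset.sum_congr rfl (g := fun _ => (h : ℂ)) fun u hu => ?_, Finset.sum_const,
        Finset.card_erase_of_mem (Finset.mem_univ _), Finset.card_univ, ← Nat.card_eq_fintype_card,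
        hh, OneMemClass.coe_one, show Subgroup.centralizer ({1} : Set G) = ⊤ from
          (Subgroup.centralizer_eq_top_iff_subset).mpr (by simp), Subgroup.card_top, hG,
        nsmul_eq_mul, Nat.cast_sub (by omega : 1 ≤ h)]
      · push_cast
        field_simp
        ring
      · rw [centralizer_kernel hZ hab hHa hHcard hHfix hcomm u.2
          (fun e' => Finset.ne_of_mem_erase hu (Subtype.ext e')), hh]
    exact_mod_cast h1
  have hsumd : ∑ χ, d χ * d χ = (h + 1) * h * e := by
    have h1 := sum_degree_sq (G := G)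
    simp only [hd, sq, hG] at h1
    exact_mod_cast h1
  -- a character constant on the non-trivial elements of the kernel
  have hvals : ∀ (χ : Cfsg.IrrCharacter G) (A B : ℕ), (χ : G → ℂ) 1 = A →
      (∀ u : G, u ∈ H → u ≠ 1 → (χ : G → ℂ) u = B) →
      d χ = A ∧ h * k χ + B = A + h * B ∧ h * M χ + B * B = A * A + h * (B * B) := by
    intro χ A B hA hB
    have hs : ∀ φ : ℂ → ℂ, ∑ u : H, φ (res χ u) = φ A + ((h : ℂ) - 1) * φ B := by
      intro φ
      rw [← Finset.add_sum_erase _ _ (Finset.mem_univ (1 : H)),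
        Finset.sum_congr rfl (g := fun _ => φ B) fun u hu => by
          simp only [res]
          rw [hB u u.2 fun e' => Finset.ne_of_mem_erase hu (Subtype.ext e')],
        Finset.sum_const, Finset.card_erase_of_mem (Finset.mem_univ _), Finset.card_univ,
        ← Nat.card_eq_fintype_card, hh, nsmul_eq_mul, Nat.cast_sub (by omega : 1 ≤ h),
        Nat.cast_one]
      simp only [res, OneMemClass.coe_one, hA]
    refine ⟨?_, ?_, ?_⟩
    · have h1 := (hd χ).symm.trans hA
      exact_mod_cast h1
    · have h1 := hk χ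
      rw [classInner_def, hh] at h1
      simp only [map_one, mul_one] at h1
      rw [hs (fun z => z)] at h1
      have h2 : ((h * k χ + B : ℕ) : ℂ) = ((A + h * B : ℕ) : ℂ) := by
        push_cast
        rw [← h1]
        field_simp
        ring
      exact_mod_cast h2
    · have h1 := hM χ
      rw [classInner_def, hh, hs (fun z => z * conj z), map_natCast, map_natCast] at h1
      have h2 : ((h * M χ + B * B : ℕ) : ℂ) = ((A * A + h * (B * B) : ℕ) : ℂ) := by
        push_cast
        rw [← h1]
        field_simp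
        ring
      exact_mod_cast h2
  -- the two special characters
  set one : Cfsg.IrrCharacter G := irrOne
  obtain ⟨hone_d, hone_k, hone_M⟩ := hvals one 1 1 (by simp [one, irrOne_apply])
    fun u _ _ => by simp [one, irrOne_apply]
  have hθirr : Cfsg.IsIrrCharacter G (fun g => (Nat.card (MulAction.fixedBy Ω g) : ℂ) - 1) :=
    (permChar_sub_one_irr_iff (by rw [Nat.card_eq_fintype_card, hΩ]; omega)).mpr hZ.2.1
  set θ : Cfsg.IrrCharacter G := ⟨_, hθirr⟩ with hθ
  have hθ1 : (θ : G → ℂ) 1 = h := by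
    show (Nat.card (MulAction.fixedBy Ω (1 : G)) : ℂ) - 1 = h
    rw [show MulAction.fixedBy Ω (1 : G) = Set.univ from Set.eq_univ_of_forall fun c => one_smul G c,
      Nat.card_coe_set_eq, Set.ncard_univ, Nat.card_eq_fintype_card, hΩ]
    push_cast
    ring
  have hθu : ∀ u : G, u ∈ H → u ≠ 1 → (θ : G → ℂ) u = (0 : ℕ) := by
    intro u hu hu1
    show (Nat.card (MulAction.fixedBy Ω u) : ℂ) - 1 = _
    rw [show MulAction.fixedBy Ω u = {a} from Set.ext fun c =>
      ⟨fun hc => hHfix u hu hu1 c hc, fun hc => by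
        rw [Set.mem_singleton_iff] at hc
        rw [hc]
        exact mem_stabilizer_iff.mp (hHa hu)⟩]
    simp
  obtain ⟨hθ_d, hθ_k, hθ_M⟩ := hvals θ h 0 hθ1 hθu
  have hone_ne : one ≠ θ := by
    intro e'
    rw [e', hθ_d] at hone_d
    omega
  -- the characters with a fixed vector
  have hclass : ∀ χ, k χ ≠ 0 → χ = one ∨ χ = θ ∨ (d χ = h + 1 ∧ k χ = 2 ∧ M χ = h + 3) := by
    intro χ hkχ
    obtain ⟨π, hπD, hπH⟩ := exists_retraction hZ hab hHa hHcard hHfix
    have hπker : ∀ x : stabilizer G a, π x = 1 ↔ (x : G) ∈ H := by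
      refine fun x => ⟨fun hx => ?_, hπH x⟩
      obtain ⟨u, hu, y, hy, hxy⟩ := decompose hZ hab hHa hHcard hHfix x.2
      have hxe : x = (⟨u, hHa hu⟩ : stabilizer G a) * ⟨y, hy.1⟩ := Subtype.ext hxy
      rw [hxe, map_mul, hπH ⟨u, hHa hu⟩ hu, one_mul, hπD ⟨y, hy.1⟩ hy] at hx
      rw [hxy, show y = 1 from congrArg Subtype.val hx, mul_one]
      exact hu
    have hlin : ∀ l : Cfsg.IrrCharacter D, (l : D → ℂ) 1 = 1 := fun l =>
      irr_one_eq_one_of_comm hDC l.2
    let χB : stabilizer G a → ℂ := fun x => (χ : G → ℂ) x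
    have hsum : ∑ l : Cfsg.IrrCharacter D, Cfsg.classInner χB (fun x => (l : D → ℂ) (π x)) = k χ := by
      have hl : ∀ y : D, ∑ l : Cfsg.IrrCharacter D, conj ((l : D → ℂ) y) =
          if y = 1 then (e : ℂ) else 0 := by
        intro y
        rw [← map_sum]
        have h1 := sum_degree_mul_apply y
        simp only [hlin, one_mul] at h1
        rw [h1]
        split_ifs <;> simp [← he, Nat.card_eq_fintype_card]
      rw [← hk χ, classInner_def]
      simp only [classInner_def, ← Finset.mul_sum]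
      rw [Finset.sum_comm]
      simp only [← Finset.mul_sum, hl, mul_ite, mul_zero, hπker, ← Finset.sum_filter, map_one,
        mul_one]
      rw [← Finset.sum_mul, hcardB, hh]
      rw [Finset.sum_bij' (f := χB) (t := (Finset.univ : Finset H))
        (g := fun u : H => (χ : G → ℂ) u)
        (fun x hx => (⟨x, (Finset.mem_filter.mp hx).2⟩ : H))
        (fun u _ => (⟨u, hHa u.2⟩ : stabilizer G a))
        (fun _ _ => Finset.mem_univ _) (fun u _ => Finset.mem_filter.mpr ⟨Finset.mem_univ _, u.2⟩)
        (fun _ _ => rfl) (fun _ _ => rfl) (fun _ _ => rfl)]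
      have he0 : (e : ℂ) ≠ 0 := by exact_mod_cast (by omega : e ≠ 0)
      push_cast
      simp only [res]
      field_simp
    obtain ⟨l, -, hl⟩ := Finset.exists_ne_zero_of_sum_ne_zero
      (show ∑ l : Cfsg.IrrCharacter D, Cfsg.classInner χB (fun x => (l : D → ℂ) (π x)) ≠ 0 by
        rw [hsum]; exact_mod_cast hkχ)
    set μ : stabilizer G a → ℂ := fun x => (l : D → ℂ) (π x)
    have hμc : Cfsg.IsCharacter (stabilizer G a) μ := isCharacter_comp (isCharacter_of_isIrr l.2) π
    rw [← frobenius_reciprocity' (stabilizer G a) μ (isClassFunction_of_isIrr χ.2)] at hl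
    by_cases hμ1 : μ = fun _ => 1
    · rw [hμ1, ← permChar_eq_indFun a] at hl
      have hsplit : (fun g : G => (Nat.card (MulAction.fixedBy Ω g) : ℂ)) =
          (fun _ => (1 : ℂ)) + (θ : G → ℂ) := funext fun g => by
        show _ = (1 : ℂ) + ((Nat.card (MulAction.fixedBy Ω g) : ℂ) - 1)
        ring
      rw [hsplit, classInner_add_right] at hl
      by_cases h1 : χ = one
      · exact Or.inl h1
      by_cases h2 : χ = θ
      · exact Or.inr (Or.inl h2)
      exfalso
      refine hl ?_
      rw [classInner_irr_ne χ.2 isIrrCharacter_one fun e' => h1 (Subtype.ext e'),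
        classInner_irr_ne χ.2 θ.2 fun e' => h2 (Subtype.ext e'), add_zero]
    · have hμ1' : μ 1 = 1 := by
        show (l : D → ℂ) (π 1) = 1
        rw [map_one, hlin]
      obtain ⟨hirr, hval⟩ := Cfsg.Agent.S0881.result hZ hab hodd (by
          rw [← hDdef, he, hΩ]
          have := Nat.mul_le_mul_right e hT3
          omega) H hHa hHcard hHfix μ
        ⟨hμc, hμ1'⟩ (fun u hu => by
          show (l : D → ℂ) (π u) = 1
          rw [hπH u hu, hlin]) hμ1
      have hχ : (χ : G → ℂ) = Cfsg.indFun (stabilizer G a) μ := by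
        by_contra hne
        exact hl (classInner_irr_ne χ.2 hirr hne)
      obtain ⟨h1, h2, h3⟩ := hvals χ (h + 1) 1 (by
          rw [hχ, indFun_one, hμ1', mul_one, MulAction.index_stabilizer_of_transitive,
            Nat.card_eq_fintype_card, hΩ])
        fun u hu hu1 => by rw [hχ, hval u hu hu1, Nat.cast_one]
      refine Or.inr (Or.inr ⟨h1, ?_, ?_⟩)
      · exact Nat.eq_of_mul_eq_mul_left (by omega : 0 < h) (by linarith)
      · exact Nat.eq_of_mul_eq_mul_left (by omega : 0 < h) (by linarith)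
  -- the split
  set S := Finset.univ.filter fun χ => k χ ≠ 0 with hS
  set C := Finset.univ.filter fun χ => ¬ k χ ≠ 0 with hC
  set P := S \ {one, θ} with hP
  have hpairS : ({one, θ} : Finset (Cfsg.IrrCharacter G)) ⊆ S := by
    intro χ hχ
    refine Finset.mem_filter.mpr ⟨Finset.mem_univ _, fun h0 => ?_⟩
    rcases Finset.mem_insert.mp hχ with rfl | hχ
    · rw [h0] at hone_k; omega
    · rw [Finset.mem_singleton] at hχ
      subst hχ
      rw [h0] at hθ_k; omega
  have hPval : ∀ χ ∈ P, d χ = h + 1 ∧ k χ = 2 ∧ M χ = h + 3 := by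
    intro χ hχ
    simp only [hP, Finset.mem_sdiff, Finset.mem_insert, Finset.mem_singleton, not_or, hS,
      Finset.mem_filter, Finset.mem_univ, true_and] at hχ
    rcases hclass χ hχ.1 with h1 | h1 | h1
    · exact absurd h1 hχ.2.1
    · exact absurd h1 hχ.2.2
    · exact h1
  have hsum3 : ∀ (φ : Cfsg.IrrCharacter G → ℕ) (c : ℕ), (∀ χ ∈ P, φ χ = c) →
      ∑ χ, φ χ = φ one + φ θ + P.card * c + ∑ χ ∈ C, φ χ := by
    intro φ c hc
    rw [← Finset.sum_filter_add_sum_filter_not Finset.univ (fun χ => k χ ≠ 0) φ, ← hS, ← hC,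
      ← Finset.sum_sdiff hpairS, ← hP, Finset.sum_congr rfl hc, Finset.sum_const, smul_eq_mul,
      Finset.sum_pair hone_ne]
    ring
  have hone_k' : k one = 1 := Nat.eq_of_mul_eq_mul_left (by omega : 0 < h) (by linarith)
  have hone_M' : M one = 1 := Nat.eq_of_mul_eq_mul_left (by omega : 0 < h) (by linarith)
  have hθ_k' : k θ = 1 := Nat.eq_of_mul_eq_mul_left (by omega : 0 < h) (by linarith)
  have hθ_M' : M θ = h := Nat.eq_of_mul_eq_mul_left (by omega : 0 < h) (by linarith)
  have hCk : ∑ χ ∈ C, d χ * k χ = 0 := Finset.sum_eq_zero fun χ hχ => by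
    rw [not_not.mp (Finset.mem_filter.mp hχ).2, mul_zero]
  have hPE : P.card = E := by
    have h1 := hsum3 (fun χ => d χ * k χ) ((h + 1) * 2) fun χ hχ => by
      rw [(hPval χ hχ).1, (hPval χ hχ).2.1]
    rw [hsumk, hCk, hone_d, hone_k', hθ_d, hθ_k', hE] at h1
    exact Nat.eq_of_mul_eq_mul_left (by omega : 0 < 2 * (h + 1)) (by linarith)
  have hCM : ∑ χ ∈ C, M χ = (E + 1) * (T * e) := by
    have h1 := hsum3 M (h + 3) fun χ hχ => (hPval χ hχ).2.2
    rw [hone_M', hθ_M', hPE] at h1
    rw [hE] at hT hsumM ⊢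
    rw [hT] at h1 hsumM
    linarith
  have hCd : ∑ χ ∈ C, d χ * d χ + (1 + h * h + E * ((h + 1) * (h + 1))) = (h + 1) * h * e := by
    have h1 := hsum3 (fun χ => d χ * d χ) ((h + 1) * (h + 1)) fun χ hχ => by
      rw [(hPval χ hχ).1]
    rw [hone_d, hθ_d, hPE, hsumd] at h1
    linarith
  -- each remaining character
  have hper : ∀ χ ∈ C, d χ * d χ + e * ((T - 1) * e) ≤ T * e * M χ := by
    intro χ hχ
    have hk0 : k χ = 0 := not_not.mp (Finset.mem_filter.mp hχ).2
    have hlinH : ∀ l : Cfsg.IrrCharacter H, (l : H → ℂ) 1 = 1 := fun l =>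
      irr_one_eq_one_of_comm hHC l.2
    choose n hn using fun l : Cfsg.IrrCharacter H =>
      classInner_char_nat (hres χ) (isCharacter_of_isIrr l.2)
    have hn1 : n irrOne = 0 := by
      have h1 := (hn irrOne).symm.trans (show Cfsg.classInner (res χ) (fun _ : H => (1 : ℂ)) = _
        from hk χ)
      rw [hk0] at h1
      exact_mod_cast h1
    set L := (Finset.univ : Finset (Cfsg.IrrCharacter H)).erase irrOne with hL
    have hLcard : L.card = T * e := by
      have h1 := sum_degree_sq (G := H)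
      simp only [hlinH, one_pow, Finset.sum_const, Finset.card_univ, nsmul_eq_mul, mul_one, hh] at h1
      rw [hL, Finset.card_erase_of_mem (Finset.mem_univ _), Finset.card_univ,
        show Fintype.card (Cfsg.IrrCharacter H) = h by exact_mod_cast h1, hT, Nat.add_sub_cancel]
    have hdn : ∑ l ∈ L, n l = d χ := by
      have h1 := congrFun (classFun_eq_sum (isClassFunction_of_isCharacter (hres χ))) 1
      simp only [Finset.sum_apply, Pi.smul_apply, smul_eq_mul, hn, hlinH, mul_one] at h1
      rw [show res χ 1 = (d χ : ℂ) from hd χ] at h1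
      rw [hL, Finset.sum_erase _ hn1]
      exact_mod_cast h1.symm
    have hMn : ∑ l ∈ L, n l ^ 2 = M χ := by
      have h1 := classInner_eq_sum (f' := res χ) (isClassFunction_of_isCharacter (hres χ))
      simp only [hn, hM, map_natCast, ← sq] at h1
      rw [hL, Finset.sum_erase _ (by rw [hn1]; rfl)]
      exact_mod_cast h1.symm
    -- the two-point stabiliser acts freely on the non-trivial characters of the kernel
    let cj : D → H ≃* H := fun y =>
      { toFun := fun u => ⟨(y : G) * u * (y : G)⁻¹,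
          conj_mem_kernel hZ hab hHa hHcard hHfix y.2.1 u.2⟩
        invFun := fun u => ⟨(y : G)⁻¹ * u * (y : G), by
          simpa using conj_mem_kernel hZ hab hHa hHcard hHfix
            ((stabilizer G a).inv_mem y.2.1) u.2⟩
        left_inv := fun u => Subtype.ext (by
          show (y : G)⁻¹ * ((y : G) * u * (y : G)⁻¹) * y = u
          group)
        right_inv := fun u => Subtype.ext (by
          show (y : G) * ((y : G)⁻¹ * u * (y : G)) * (y : G)⁻¹ = u
          group)
        map_mul' := fun u v => Subtype.ext (by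
          show (y : G) * ((u : G) * v) * (y : G)⁻¹ = (y * u * (y : G)⁻¹) * (y * v * (y : G)⁻¹)
          group) }
    let tw : D → Cfsg.IrrCharacter H → Cfsg.IrrCharacter H := fun y l =>
      ⟨(l : H → ℂ) ∘ cj y, isIrr_of_linear (isCharacter_comp (isCharacter_of_isIrr l.2)
        (cj y).toMonoidHom) (by
          show (l : H → ℂ) (cj y 1) = 1
          rw [map_one, hlinH])⟩
    have htwn : ∀ y l, n (tw y l) = n l := by
      intro y l
      have h1 : res χ ∘ cj y = res χ := funext fun u =>
        isClassFunction_of_isIrr χ.2 (u : G) (y : G)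
      have h2 := classInner_comp_mulEquiv (cj y) (res χ) (l : H → ℂ)
      rw [h1, hn l] at h2
      have h3 := (hn (tw y l)).symm.trans h2
      exact_mod_cast h3
    have htwne : ∀ y l, l ≠ irrOne → tw y l ≠ irrOne := by
      intro y l hl e'
      refine hl (Subtype.ext (funext fun u => ?_))
      obtain ⟨v, rfl⟩ := (cj y).surjective u
      exact congrFun (congrArg Subtype.val e') v
    have htwinj : ∀ l, l ≠ irrOne → Function.Injective fun y => tw y l := by
      intro l hl y z e'
      have hyz : ∀ u, (l : H → ℂ) (cj y u) = (l : H → ℂ) (cj z u) :=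
        fun u => congrFun (congrArg Subtype.val e') u
      by_contra hne
      set w : G := (z : G) * (y : G)⁻¹ with hw
      have hwD : w ∈ D := D.mul_mem z.2 (D.inv_mem y.2)
      have hw1 : w ≠ 1 := fun h => hne (Subtype.ext (mul_inv_eq_one.mp h).symm)
      let g : H → H := fun v => v⁻¹ * cj ⟨w, hwD⟩ v
      have hg : Function.Injective g := by
        intro v v' h
        have h1 : cj ⟨w, hwD⟩ (v * v'⁻¹) = v * v'⁻¹ := by
          have h' : v⁻¹ * cj ⟨w, hwD⟩ v = v'⁻¹ * cj ⟨w, hwD⟩ v' := h
          rw [map_mul, map_inv]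
          calc cj ⟨w, hwD⟩ v * (cj ⟨w, hwD⟩ v')⁻¹
              = v * (v⁻¹ * cj ⟨w, hwD⟩ v) * (cj ⟨w, hwD⟩ v')⁻¹ := by group
            _ = v * v'⁻¹ := by rw [h']; group
        refine mul_inv_eq_one.mp (Subtype.ext ?_)
        exact CfsgLib.Solvable.eq_one_of_fpf (A := D) (fpf hZ hab hHa hHfix) hwD hw1
          (v * v'⁻¹).2 (congrArg Subtype.val h1)
      refine hl (Subtype.ext (funext fun u => ?_))
      obtain ⟨v, rfl⟩ := Finite.surjective_of_injective hg u
      have hv : (l : H → ℂ) (cj ⟨w, hwD⟩ v) = (l : H → ℂ) v := by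
        have h1 := hyz ((cj y).symm v)
        rw [MulEquiv.apply_symm_apply] at h1
        rw [h1]
        refine congrArg (l : H → ℂ) (Subtype.ext ?_)
        show w * v * w⁻¹ = (z : G) * ((y : G)⁻¹ * v * (y : G)) * (z : G)⁻¹
        rw [hw]
        group
      have hmul := linear_map_mul (isCharacter_of_isIrr l.2) (hlinH l)
      show (l : H → ℂ) (v⁻¹ * cj ⟨w, hwD⟩ v) = 1
      rw [hmul, hv, ← hmul, inv_mul_cancel, hlinH]
    have hlevel : ∀ l ∈ L, ∀ p : ℕ → Prop, [DecidablePred p] → p (n l) →
        e ≤ (L.filter fun m => p (n m)).card := by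
      intro l hl p _ hp
      rw [← he, Nat.card_eq_fintype_card, ← Finset.card_univ]
      refine Finset.card_le_card_of_injOn (fun y => tw y l) (fun y _ => ?_)
        fun y _ z _ h => htwinj l (Finset.ne_of_mem_erase hl) h
      refine Finset.mem_coe.mpr (Finset.mem_filter.mpr ⟨Finset.mem_erase.mpr
        ⟨htwne y l (Finset.ne_of_mem_erase hl), Finset.mem_univ _⟩, ?_⟩)
      rw [htwn]; exact hp
    have hLne : L.Nonempty := Finset.card_pos.mp (by rw [hLcard]; exact Nat.mul_pos (by omega) (by omega))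
    obtain ⟨l₀, hl₀⟩ := hLne
    by_cases hconst : ∀ l ∈ L, n l = n l₀
    · exfalso
      have hdT : d χ = T * e * n l₀ := by
        rw [← hdn, Finset.sum_congr rfl hconst, Finset.sum_const, hLcard, smul_eq_mul]
      have h1 : T * e * n l₀ ∣ (h + 1) * h * e := hG ▸ hdT ▸ degree_dvd_card χ.2 (hd χ)
      have h2 : T ∣ (h + 1) * h := Nat.dvd_of_mul_dvd_mul_right (by omega : 0 < e)
        (dvd_trans (Dvd.intro _ rfl) h1)
      have h3 : (h + 1) * h = T * (e * (T * e + 3)) + 2 := by rw [hT]; ring
      rw [h3, Nat.dvd_add_right (Dvd.intro _ rfl)] at h2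
      have := Nat.le_of_dvd (by omega) h2
      omega
    · push Not at hconst
      obtain ⟨l₁, hl₁, hne⟩ := hconst
      have h1 := sq_sum_add_le L n (n l₀) e (hlevel l₀ hl₀ (fun m => m = n l₀) rfl)
        (hlevel l₁ hl₁ (fun m => ¬ m = n l₀) hne)
      rw [hdn, hMn, hLcard, sq, show T * e - e = (T - 1) * e by
        rw [Nat.sub_one_mul]] at h1
      exact h1
  -- at most `T` of them
  have hCcard : C.card ≤ T := by
    have h1 := Finset.sum_le_sum hper
    rw [Finset.sum_add_distrib, Finset.sum_const, smul_eq_mul, ← Finset.mul_sum, hCM] at h1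
    obtain ⟨T', rfl⟩ : ∃ T', T = T' + 1 := ⟨T - 1, by omega⟩
    rw [Nat.add_sub_cancel] at h1
    refine Nat.le_of_mul_le_mul_right ?_
      (Nat.mul_pos (by omega : 0 < e) (Nat.mul_pos (by omega : 0 < T') (by omega : 0 < e)))
    rw [hE] at h1 hT hCd ⊢
    rw [hT] at hCd
    linarith
  have hSP : S.card = 2 + E := by
    rw [← hPE, hP, ← Finset.card_sdiff_add_card_eq_card hpairS, Finset.card_pair hone_ne, add_comm]
  rw [← card_irr_eq_card_conjClasses, Nat.card_eq_fintype_card, ← Finset.card_univ,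
    ← Finset.card_filter_add_card_filter_not (s := (Finset.univ : Finset (Cfsg.IrrCharacter G)))
      (fun χ => k χ ≠ 0), ← hS, ← hC, hSP]
  omega

include hZ hab hHa hHcard hHfix in
/-- The two-point stabilisers have half the possible order. -/
theorem two_mul_card_eq_of_simple [IsSimpleGroup G] (hcomm : ∀ u ∈ H, ∀ v ∈ H, u * v = v * u)
    (hodd : Odd (Nat.card (stabilizer G a ⊓ stabilizer G b : Subgroup G)))
    (hlt : Nat.card (stabilizer G a ⊓ stabilizer G b : Subgroup G) < Fintype.card Ω - 2) :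
    2 * Nat.card (stabilizer G a ⊓ stabilizer G b : Subgroup G) = Fintype.card Ω - 2 := by
  classical
  set e := Nat.card (stabilizer G a ⊓ stabilizer G b : Subgroup G) with he
  obtain ⟨E, hE⟩ := id hodd
  have h3 := three_le_of_odd hZ hab hodd
  have hdvd : e ∣ Nat.card ((H : Set G) \ {1} : Set G) :=
    Cfsg.Agent.S0738.dvd_card_invariant _ _
      (fun x hx u hu => ⟨conj_mem_kernel hZ hab hHa hHcard hHfix hx.1 hu.1, fun h1 =>
        hu.2 (conj_eq_one_iff.mp h1)⟩)
      (fun x hx u hu h1 => by
        by_contra hx1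
        exact hu.2 (CfsgLib.Solvable.eq_one_of_fpf (fpf hZ hab hHa hHfix) hx hx1 hu.1 h1))
  rw [Nat.card_coe_set_eq, Set.ncard_sdiff_singleton_of_mem H.one_mem, ← Nat.card_coe_set_eq] at hdvd
  obtain ⟨T, hT⟩ := hdvd
  have hT' : Nat.card H = T * e + 1 := by
    have := Nat.card_pos (α := H)
    rw [mul_comm] at hT
    simp only [SetLike.coe_sort_coe] at hT
    omega
  rw [← hHcard, hT', show T * e + 1 + 1 - 2 = T * e by omega] at hlt ⊢
  rcases (by omega : T = 0 ∨ T = 1 ∨ T = 2 ∨ 3 ≤ T) with rfl | rfl | rfl | hT3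
  · omega
  · omega
  · rfl
  · exfalso
    have h1 := conjClasses_lower hZ hab hHa hHcard hHfix hcomm hT' he.symm hE rfl
      (by omega) (by omega)
    have h2 := conjClasses_upper hZ hab hHa hHcard hHfix hcomm hT' he.symm hE rfl (by omega) hT3
    omega

end CfsgLib.SmallGroups.ZassenhausHalf
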