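import Cfsg.Agent.Lib.SmallGroups.ZassenhausHalf.Coordinates
import Cfsg.Agent.Lib.SmallGroups.ZassenhausHalf.Compare
import Cfsg.Agent.Lib.Char.Zassenhaus
import Cfsg.Agent.S0738
import Mathlib

/-!
A simple Zassenhaus group of degree `q + 1` with two-point stabilisers of odd order `(q - 1) / 2` is
`PSL(2, q)`: the swapping involution has no fixed point, so it is `t ↦ -e²/t` in coordinates.
-/

set_option autoImplicit false

namespace CfsgLib.SmallGroups.ZassenhausHalf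

open MulAction

/-- The recognition for odd two-point stabilisers. -/
theorem nonempty_psl_of_half_odd {G Ω : Type*} [Group G] [Finite G] [MulAction G Ω] [Fintype Ω]
    [IsSimpleGroup G] (hZ : Cfsg.IsZassenhausGroup G Ω) {a b : Ω} (hab : a ≠ b)
    (hodd : Odd (Nat.card ↥(stabilizer G a ⊓ stabilizer G b)))
    (hd : 2 * Nat.card ↥(stabilizer G a ⊓ stabilizer G b) = Fintype.card Ω - 2) :
    ∃ (F : Type) (_ : Field F) (_ : Fintype F),
      ringChar F ≠ 2 ∧ Nonempty (G ≃* Matrix.ProjectiveSpecialLinearGroup (Fin 2) F) := by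
  classical
  haveI := hZ.1
  set D := stabilizer G a ⊓ stabilizer G b with hD
  obtain ⟨K, hKa, hKcard, hKfix⟩ := CfsgLib.Char.Zassenhaus.exists_kernel hZ hab
  have hn := CfsgLib.Char.Zassenhaus.three_le_points hZ hab
  have hKreg : ∀ y z : Ω, y ≠ a → z ≠ a → ∃! u : K, (u : G) • y = z := by
    intro y z hy hz
    obtain ⟨h1, h2⟩ := CfsgLib.Char.Zassenhaus.bijective_smul hZ (Ne.symm hy) hKa hKcard hKfix
    obtain ⟨u, hu⟩ := h2 ⟨z, hz⟩
    exact ⟨u, congrArg Subtype.val hu, fun v hv =>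
      h1 (Subtype.ext (hv.trans (congrArg Subtype.val hu).symm))⟩
  have hKn : ∀ g : G, g • a = a → ∀ k ∈ K, g * k * g⁻¹ ∈ K := fun g hg k hk =>
    CfsgLib.Char.Zassenhaus.conj_mem_kernel hZ hab hKa hKcard hKfix hg hk
  have hKN : (K.subgroupOf (stabilizer G a)).Normal :=
    ⟨fun n hn g => Subgroup.mem_subgroupOf.mpr (hKn g g.2 n (Subgroup.mem_subgroupOf.mp hn))⟩
  obtain ⟨hKc, p, j, hp, -, hΩ⟩ := Cfsg.Agent.S0738.result hZ hab (le_of_eq hd.symm) K hKa hKN hKreg
  have hd0 : 0 < Nat.card D := Nat.card_pos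
  have hdj : p ^ j = 2 * Nat.card D + 1 := by omega
  have hp2 : p ≠ 2 := by
    intro h
    subst h
    rcases Nat.eq_zero_or_pos j with h0 | h0
    · rw [h0, pow_zero] at hdj; omega
    · have : 2 ∣ 2 ^ j := dvd_pow_self 2 h0.ne'
      omega
  obtain ⟨s, hs, hsa, hsb⟩ := CfsgLib.Char.Zassenhaus.exists_swap hZ hab hodd
  obtain ⟨hinv, hcomm⟩ := CfsgLib.Char.Zassenhaus.swap_inverts hZ hab hodd hsa hsb
  have hss : s * s = 1 := by rw [← pow_two, ← hs, pow_orderOf_eq_one]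
  have hfree : ∀ x : Ω, s • x ≠ x := by
    intro x hx
    have h1 := (CfsgLib.Char.Zassenhaus.card_involution hZ hab (h := p ^ j) hΩ rfl hodd).2 s hs
    rw [if_neg (by rw [Nat.not_even_iff_odd]; exact ⟨Nat.card D, hdj⟩)] at h1
    haveI : Nonempty {c : Ω // s • c = c} := ⟨⟨x, hx⟩⟩
    exact Nat.card_pos.ne' h1
  obtain ⟨c, -, hc⟩ := Finset.exists_mem_notMem_of_card_lt_card (s := ({a, b} : Finset Ω))
    (t := Finset.univ) (by rw [Finset.card_pair hab, Finset.card_univ]; omega)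
  simp only [Finset.mem_insert, Finset.mem_singleton, not_or] at hc
  obtain ⟨F, iF, iF', P, hF, hchar, hPinj, hPa, hPsurj, hP0, hP1, htrans, hmul, hmul'⟩ :=
    exists_half_coordinates hab (Ne.symm hc.1) (Ne.symm hc.2) hp hp2
      (by rw [Nat.card_eq_fintype_card, hΩ]) hdj hd0 K (fun k hk => hKa hk)
      (fun x hx y hy => congrArg Subtype.val (mul_comm' (⟨x, hx⟩ : K) ⟨y, hy⟩)) hKn
      (fun x y hx hy => by obtain ⟨u, hu, -⟩ := hKreg x y hx hy; exact ⟨u, u.2, hu⟩)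
      (fun k hk x hx h => by by_contra h1; exact hx (hKfix k hk h1 x h)) rfl
      (fun g hga hgb x hxa hxb hx =>
        hZ.2.2.1 g a b x hab (Ne.symm hxb) (Ne.symm hxa) hga hgb hx)
      (fun x y hxa hxb hya hyb => hcomm x ⟨hxa, hxb⟩ y ⟨hya, hyb⟩)
  refine ⟨F, iF, iF', hchar, ?_⟩
  have hneg : ¬ IsSquare (-1 : F) := by
    rw [FiniteField.isSquare_neg_one_iff, hF, hdj]
    obtain ⟨d₂, hd₂⟩ := hodd
    omega
  have hneg0 : (-1 : F) ≠ 0 := neg_ne_zero.mpr one_ne_zero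
  have hnsq : ∀ x : F, x ≠ 0 → ¬ IsSquare x → IsSquare (-x) := by
    intro x hx hxs
    rw [FiniteField.isSquare_iff hchar (neg_ne_zero.mpr hx), ← neg_one_mul x, mul_pow]
    have h1 := (FiniteField.pow_dichotomy hchar hx).resolve_left fun h =>
      hxs ((FiniteField.isSquare_iff hchar hx).mpr h)
    have h2 := (FiniteField.pow_dichotomy hchar hneg0).resolve_left fun h =>
      hneg ((FiniteField.isSquare_iff hchar hneg0).mpr h)
    rw [h1, h2, neg_one_mul, neg_neg]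
  have hsx : ∀ x : F, x ≠ 0 → ∃ y, y ≠ 0 ∧ s • P x = P y := fun x hx => by
    obtain ⟨y, hy⟩ := hPsurj (s • P x) (fun e => hx (hPinj (by
      rw [hP0]; exact MulAction.injective s (e.trans hsb.symm))))
    refine ⟨y, fun h => hPa x ?_, hy.symm⟩
    rw [h, hP0] at hy
    exact MulAction.injective s (hy.symm.trans hsa.symm)
  choose f hf0 hf using hsx
  have hfsq : ∀ (u : F) (hu : u ≠ 0), IsSquare u → f u hu = u⁻¹ * f 1 one_ne_zero := by
    intro u hu hus
    obtain ⟨h, hha, hhb, hh⟩ := hmul' u hu hus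
    apply hPinj
    rw [← hf u hu, show P u = h • P 1 by rw [hh, mul_one], ← mul_smul,
      show s * h = h⁻¹ * s by
        rw [← hinv h ⟨hha, hhb⟩, inv_eq_of_mul_eq_one_right hss, mul_assoc (s * h), hss, mul_one],
      mul_smul, hf 1 one_ne_zero,
      inv_smul_eq_iff, hh, ← mul_assoc, mul_inv_cancel₀ hu, one_mul]
  set w := f 1 one_ne_zero with hw
  have hw0 : w ≠ 0 := hf0 _ _
  -- the image of `1` is a non-square, as `s` has no fixed point
  have hwns : ¬ IsSquare w := by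
    rintro ⟨r, hr⟩
    obtain ⟨x, hxs, hxw⟩ : ∃ x, IsSquare x ∧ x * x = w := by
      by_cases hrs : IsSquare r
      · exact ⟨r, hrs, hr.symm⟩
      · exact ⟨-r, hnsq r (fun e => hw0 (by rw [hr, e, mul_zero])) hrs, by rw [hr, neg_mul_neg]⟩
    have hx0 : x ≠ 0 := fun e => hw0 (by rw [← hxw, e, mul_zero])
    refine hfree (P x) ?_
    rw [hf x hx0, hfsq x hx0 hxs, ← hxw, ← mul_assoc, inv_mul_cancel₀ hx0, one_mul]
  obtain ⟨m, hm⟩ := hnsq w hw0 hwns
  have hm0 : m ≠ 0 := fun e => hw0 (neg_eq_zero.mp (by rw [hm, e, mul_zero]))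
  refine nonempty_psl_of_coordinates hZ hab hF hΩ hdj hPinj hPa hPsurj hP0 htrans hmul hsa hsb hm0
    fun t ht => ?_
  rw [show -(m * m) = w by rw [← hm, neg_neg]]
  by_cases hts : IsSquare t
  · rw [hf t ht, hfsq t ht hts, inv_mul_eq_div]
  · have hxs : IsSquare (w / t) := by
      rw [← neg_div_neg_eq]
      exact (IsSquare.div ⟨m, hm⟩ (hnsq t ht hts))
    have hx0 : w / t ≠ 0 := div_ne_zero hw0 ht
    have h1 := hf (w / t) hx0
    rw [hfsq _ hx0 hxs, inv_div, div_mul_cancel₀ t hw0] at h1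
    rw [← h1, ← mul_smul, hss, one_smul]

end CfsgLib.SmallGroups.ZassenhausHalf
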