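import Cfsg.Agent.Lib.Char.Zassenhaus
import Cfsg.Agent.Lib.Char.PermChar
import Cfsg.Agent.Lib.SmallGroups.BrauerFew.Local
import Mathlib

/-!
Classes of a simple Zassenhaus group with an abelian kernel of order `h` and two-point stabilisers
of odd order `e = 2 E + 1`, `h = T e + 1`: there are more than `2 + E + T` of them.
-/

set_option autoImplicit false

namespace CfsgLib.SmallGroups.ZassenhausHalf

open MulAction CfsgLib.Char.Zassenhaus

variable {G Ω : Type*} [Group G] [Finite G] [MulAction G Ω] [Fintype Ω]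
variable (hZ : Cfsg.IsZassenhausGroup G Ω) {a b : Ω} (hab : a ≠ b) {H : Subgroup G}
  (hHa : H ≤ stabilizer G a) (hHcard : Nat.card H + 1 = Fintype.card Ω)
  (hHfix : ∀ u ∈ H, u ≠ 1 → ∀ c : Ω, u • c = c → c = a)

include hZ hab hHa hHcard hHfix in
/-- The centraliser of a non-trivial element of an abelian kernel is the kernel. -/
theorem centralizer_kernel (hcomm : ∀ u ∈ H, ∀ v ∈ H, u * v = v * u) {u : G} (hu : u ∈ H)
    (hu1 : u ≠ 1) : Subgroup.centralizer ({u} : Set G) = H := by
  refine le_antisymm (fun g hg => ?_)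
    fun v hv => Subgroup.mem_centralizer_singleton_iff.mpr (hcomm v hv u hu)
  have hgu := Subgroup.mem_centralizer_singleton_iff.mp hg
  have hga : g • a = a := hHfix u hu hu1 _ (by
    rw [← mul_smul, ← hgu, mul_smul, mem_stabilizer_iff.mp (hHa hu)])
  by_contra hgH
  obtain ⟨v, hv, y, hy, hy1, rfl⟩ :=
    exists_conj_mem hZ hab hHa hHcard hHfix (mem_stabilizer_iff.mpr hga) hgH
  have h1 : v * u = u * v := hcomm v hv u hu
  have h2 : y * u = u * y := by
    calc y * u = v⁻¹ * (v * y * v⁻¹) * (v * u) := by group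
      _ = v⁻¹ * ((v * y * v⁻¹) * u) * v := by rw [h1]; group
      _ = v⁻¹ * (u * (v * y * v⁻¹)) * v := by rw [hgu]
      _ = v⁻¹ * (u * v) * y := by group
      _ = u * y := by rw [← h1]; group
  have h3 : u ∈ H ⊓ Subgroup.centralizer {y} :=
    ⟨hu, Subgroup.mem_centralizer_singleton_iff.mpr h2.symm⟩
  rw [fpf hZ hab hHa hHfix y hy hy1, Subgroup.mem_bot] at h3
  exact hu1 h3

include hZ hab in
/-- The centraliser of a non-trivial element fixing two points is the two-point stabiliser. -/
theorem centralizer_two [IsSimpleGroup G]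
    (hodd : Odd (Nat.card (stabilizer G a ⊓ stabilizer G b : Subgroup G))) {y : G}
    (hy : y ∈ (stabilizer G a ⊓ stabilizer G b : Subgroup G)) (hy1 : y ≠ 1) :
    Subgroup.centralizer ({y} : Set G) = stabilizer G a ⊓ stabilizer G b := by
  obtain ⟨t, -, hta, htb⟩ := exists_swap hZ hab hodd
  obtain ⟨-, hcomm⟩ := swap_inverts hZ hab hodd hta htb
  refine le_antisymm (fun g hg => ?_)
    fun x hx => Subgroup.mem_centralizer_singleton_iff.mpr (hcomm x hx y hy)
  have hgy := Subgroup.mem_centralizer_singleton_iff.mp hg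
  have hya := mem_stabilizer_iff.mp hy.1
  have hyb := mem_stabilizer_iff.mp hy.2
  have hfix : ∀ c, y • c = c → c = a ∨ c = b := fun c hc => by
    by_contra hne
    push Not at hne
    exact hy1 (eq_one_of_fix hZ hab (Ne.symm hne.2) (Ne.symm hne.1) hya hyb hc)
  have h1 : y • (g • a) = g • a := by rw [← mul_smul, ← hgy, mul_smul, hya]
  have h2 : y • (g • b) = g • b := by rw [← mul_smul, ← hgy, mul_smul, hyb]
  have hne : g • a ≠ g • b := fun e => hab (smul_left_cancel g e)
  rcases hfix _ h1 with ha | ha <;> rcases hfix _ h2 with hb | hb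
  · exact absurd (ha.trans hb.symm) hne
  · exact ⟨ha, hb⟩
  · exfalso
    have hinv := (swap_inverts hZ hab hodd ha hb).1 y hy
    rw [mul_assoc, ← hgy, ← mul_assoc, inv_mul_cancel, one_mul, ← mul_eq_one_iff_eq_inv] at hinv
    have h3 := orderOf_dvd_of_pow_eq_one (show y ^ 2 = 1 by rw [pow_two, hinv])
    rcases (Nat.dvd_prime Nat.prime_two).mp h3 with h4 | h4
    · exact hy1 (orderOf_eq_one_iff.mp h4)
    · have h5 := Subgroup.orderOf_dvd_natCard _ hy
      rw [h4] at h5
      exact (Nat.not_even_iff_odd.mpr hodd) (even_iff_two_dvd.mpr h5)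
  · exact absurd (ha.trans hb.symm) hne

omit [Finite G] [MulAction G Ω] [Fintype Ω] in
/-- Conjugate elements have centralisers of the same order. -/
theorem card_centralizer_conj [Finite G] (g x : G) :
    Nat.card (Subgroup.centralizer ({g * x * g⁻¹} : Set G)) =
      Nat.card (Subgroup.centralizer ({x} : Set G)) := by
  have := Fintype.ofFinite G
  have h1 := CfsgLib.Char.card_isConj_mul_card_centralizer (g * x * g⁻¹)
  have h2 := CfsgLib.Char.card_isConj_mul_card_centralizer x
  have hc : IsConj x (g * x * g⁻¹) := isConj_iff.mpr ⟨g, rfl⟩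
  have he : Nat.card {z : G // IsConj (g * x * g⁻¹) z} = Nat.card {z : G // IsConj x z} :=
    Nat.card_congr (Equiv.subtypeEquivRight fun z => ⟨hc.trans, hc.symm.trans⟩)
  rw [he, ← h2] at h1
  haveI : Nonempty {z : G // IsConj x z} := ⟨⟨x, IsConj.refl x⟩⟩
  exact Nat.eq_of_mul_eq_mul_left Nat.card_pos h1

include hZ hab hHa hHcard hHfix in
/-- There are more than `2 + E + T` classes. -/
theorem conjClasses_lower [IsSimpleGroup G] (hcomm : ∀ u ∈ H, ∀ v ∈ H, u * v = v * u) {h e E T : ℕ}
    (hh : Nat.card H = h) (he : Nat.card (stabilizer G a ⊓ stabilizer G b : Subgroup G) = e)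
    (hE : e = 2 * E + 1) (hT : h = T * e + 1) (hE1 : 1 ≤ E) (hT1 : 1 ≤ T) :
    2 + E + T < Nat.card (ConjClasses G) := by
  classical
  have := Fintype.ofFinite G
  have hodd : Odd (Nat.card (stabilizer G a ⊓ stabilizer G b : Subgroup G)) := ⟨E, he.trans hE⟩
  have := CfsgLib.Char.Zassenhaus.isPretransitive hZ
  have hΩ : Fintype.card Ω = h + 1 := by rw [← hHcard, hh]
  have hG : Nat.card G = (h + 1) * h * e := by
    rw [← card_group hZ hab, hΩ, Nat.add_sub_cancel, he]
  let f : G → ℕ := fun g => (Finset.univ.filter fun c : Ω => g • c = c).card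
  let cz : G → ℕ := fun g => Nat.card (Subgroup.centralizer ({g} : Set G))
  have hf1 : f 1 = h + 1 := by simp [f, hΩ]
  have hh3 : 3 ≤ h := by
    have := Nat.mul_le_mul hT1 (show 3 ≤ e by omega)
    omega
  have hfle : ∀ g : G, g ≠ 1 → f g ≤ 2 := by
    intro g hg
    by_contra hlt
    obtain ⟨x, hx, y, hy, z, hz, hxy, hxz, hyz⟩ :=
      Finset.two_lt_card.mp (show 2 < f g by omega)
    simp only [Finset.mem_filter, Finset.mem_univ, true_and] at hx hy hz
    exact hg (eq_one_of_fix hZ hxy hyz hxz hx hy hz)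
  have hsplit : ∀ φ : G → ℕ, ∑ g, φ g = φ 1 + ∑ g ∈ Finset.univ.filter (fun g => f g = 1), φ g +
      ∑ g ∈ Finset.univ.filter (fun g => f g = 2), φ g +
      ∑ g ∈ Finset.univ.filter (fun g => f g = 0), φ g := by
    intro φ
    rw [← Finset.sum_ite_eq' Finset.univ (1 : G) φ |>.trans (if_pos (Finset.mem_univ _)),
      Finset.sum_filter, Finset.sum_filter, Finset.sum_filter, ← Finset.sum_add_distrib,
      ← Finset.sum_add_distrib, ← Finset.sum_add_distrib]
    refine Finset.sum_congr rfl fun g _ => ?_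
    by_cases hg : g = 1
    · subst hg
      rw [if_pos rfl, hf1, if_neg (by omega), if_neg (by omega), if_neg (by omega)]
      simp
    · have := hfle g hg
      rcases (by omega : f g = 0 ∨ f g = 1 ∨ f g = 2) with e' | e' | e' <;> simp [hg, e']
  set N₁ := (Finset.univ.filter fun g : G => f g = 1).card with hN₁
  set N₂ := (Finset.univ.filter fun g : G => f g = 2).card with hN₂
  set W := Finset.univ.filter fun g : G => f g = 0 with hW
  -- the counts
  have hcount1 := hsplit fun _ => 1
  simp only [Finset.sum_const, smul_eq_mul, mul_one, Finset.card_univ, ← Nat.card_eq_fintype_card,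
    ← hN₁, ← hN₂] at hcount1
  have hfixed : ∀ g : G, Nat.card (MulAction.fixedBy Ω g) = f g := fun g => by
    show _ = (Finset.univ.filter fun c : Ω => g • c = c).card
    rw [← Fintype.card_subtype, ← Nat.card_eq_fintype_card]
    rfl
  have hsum1 : ∑ g : G, f g = Nat.card G := by
    have h1 := CfsgLib.Char.sum_fixed_eq_card_orbits (G := G) (X := Ω)
    have horb : Nat.card (Quotient (MulAction.orbitRel G Ω)) = 1 := by
      rw [Nat.card_eq_one_iff_unique]
      exact ⟨⟨fun q r => Quotient.inductionOn₂ q r fun x y =>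
        Quotient.sound (MulAction.exists_smul_eq G y x)⟩, ⟨Quotient.mk _ a⟩⟩
    simp only [hfixed, horb, Nat.cast_one, mul_one] at h1
    exact_mod_cast h1
  have hsum2 : ∑ g : G, f g * f g = 2 * Nat.card G := by
    have h1 := CfsgLib.Char.sum_fixed_eq_card_orbits (G := G) (X := Ω × Ω)
    have horb : Nat.card (Quotient (MulAction.orbitRel G (Ω × Ω))) = 2 :=
      (CfsgLib.Char.two_orbits_iff (by rw [Nat.card_eq_fintype_card, hΩ]; omega)).mpr hZ.2.1
    have hpair : ∀ g : G, Nat.card (MulAction.fixedBy (Ω × Ω) g) = f g * f g := fun g => by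
      rw [← hfixed g, ← Nat.card_prod]
      exact Nat.card_congr ((Equiv.setCongr (by
        ext ⟨x, y⟩; simp [MulAction.mem_fixedBy, Prod.ext_iff])).trans (Equiv.Set.prod _ _))
    simp only [hpair, horb] at h1
    rw [mul_comm (2 : ℕ)]
    exact_mod_cast h1
  rw [hsplit f, hf1] at hsum1
  rw [hsplit fun g => f g * f g, hf1] at hsum2
  have hs : ∀ (k : ℕ) (φ : ℕ → ℕ), ∑ g ∈ Finset.univ.filter (fun g => f g = k), φ (f g) =
      (Finset.univ.filter fun g : G => f g = k).card * φ k := by
    intro k φ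
    rw [Finset.sum_congr rfl fun g hg => by rw [(Finset.mem_filter.mp hg).2], Finset.sum_const,
      smul_eq_mul]
  simp only [hW, hs 1 (fun x => x), hs 2 (fun x => x), hs 0 (fun x => x), mul_zero, add_zero,
    mul_one, ← hN₁, ← hN₂] at hsum1
  simp only [hW, hs 1 (fun x => x * x), hs 2 (fun x => x * x), hs 0 (fun x => x * x), mul_zero,
    add_zero, mul_one, ← hN₁, ← hN₂] at hsum2
  -- the centralisers
  have hC1 : ∀ g ∈ Finset.univ.filter (fun g : G => f g = 1), cz g = h := by
    intro g hg
    obtain ⟨c, hc⟩ := Finset.card_eq_one.mp (Finset.mem_filter.mp hg).2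
    have hgc : g • c = c := (Finset.mem_filter.mp (hc.ge (Finset.mem_singleton_self c))).2
    have honly : ∀ d, g • d = d → d = c := fun d hd =>
      Finset.mem_singleton.mp (hc.le (Finset.mem_filter.mpr ⟨Finset.mem_univ _, hd⟩))
    obtain ⟨t, rfl⟩ := MulAction.exists_smul_eq G a c
    set g' := t⁻¹ * g * t with hg'
    have honly' : ∀ d, g' • d = d → d = a := fun d hd => smul_left_cancel t (honly (t • d) (by
      rw [hg', mul_smul, mul_smul, inv_smul_eq_iff] at hd; exact hd))
    have hg'a : g' ∈ stabilizer G a := by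
      rw [mem_stabilizer_iff, hg', mul_smul, mul_smul, hgc, inv_smul_smul]
    have hg'H : g' ∈ H := by
      by_contra hnot
      obtain ⟨v, hv, y, hy, -, hvy⟩ := exists_conj_mem hZ hab hHa hHcard hHfix hg'a hnot
      have hfx : g' • (v • b) = v • b := by
        rw [hvy, mul_smul, mul_smul, inv_smul_smul, mem_stabilizer_iff.mp hy.2]
      exact hab (smul_left_cancel v
        ((mem_stabilizer_iff.mp (hHa hv)).trans (honly' _ hfx).symm))
    have hg'1 : g' ≠ 1 := fun e' => hab (honly' b (by rw [e', one_smul])).symm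
    show Nat.card (Subgroup.centralizer ({g} : Set G)) = h
    rw [show g = t * g' * t⁻¹ by rw [hg']; group, card_centralizer_conj,
      centralizer_kernel hZ hab hHa hHcard hHfix hcomm hg'H hg'1, hh]
  have hC2 : ∀ g ∈ Finset.univ.filter (fun g : G => f g = 2), cz g = e := by
    intro g hg
    obtain ⟨c, d, hcd, hc⟩ := Finset.card_eq_two.mp (Finset.mem_filter.mp hg).2
    have hgc : g • c = c := (Finset.mem_filter.mp (hc.ge (by simp : c ∈ ({c, d} : Finset Ω)))).2
    have hgd : g • d = d := (Finset.mem_filter.mp (hc.ge (by simp : d ∈ ({c, d} : Finset Ω)))).2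
    obtain ⟨t, ht1, ht2⟩ := exists_map hZ hab hcd
    set g' := t⁻¹ * g * t with hg'
    have hg'D : g' ∈ (stabilizer G a ⊓ stabilizer G b : Subgroup G) :=
      Subgroup.mem_inf.mpr ⟨by rw [mem_stabilizer_iff, hg', mul_smul, mul_smul, ht1, hgc,
          inv_smul_eq_iff, ht1],
        by rw [mem_stabilizer_iff, hg', mul_smul, mul_smul, ht2, hgd, inv_smul_eq_iff, ht2]⟩
    have hg'1 : g' ≠ 1 := fun e' => by
      have : g = 1 := by rw [show g = t * g' * t⁻¹ by rw [hg']; group, e', mul_one, mul_inv_cancel]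
      subst this
      rw [(Finset.mem_filter.mp hg).2] at hf1
      omega
    show Nat.card (Subgroup.centralizer ({g} : Set G)) = e
    rw [show g = t * g' * t⁻¹ by rw [hg']; group, card_centralizer_conj,
      centralizer_two hZ hab hodd hg'D hg'1, he]
  have hcz1 : cz 1 = Nat.card G := by
    show Nat.card (Subgroup.centralizer ({1} : Set G)) = _
    rw [show Subgroup.centralizer ({1} : Set G) = ⊤ from
      (Subgroup.centralizer_eq_top_iff_subset).mpr (by simp), Subgroup.card_top]
  have hk : ∑ g : G, cz g = Nat.card (ConjClasses G) * Nat.card G :=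
    CfsgLib.SmallGroups.BrauerFew.sum_card_centralizer
  rw [hsplit cz, hcz1, Finset.sum_congr rfl hC1, Finset.sum_congr rfl hC2, Finset.sum_const,
    Finset.sum_const, smul_eq_mul, smul_eq_mul, ← hN₁, ← hN₂] at hk
  -- the numbers
  have hG' : Nat.card G = 2 * ((h + 1) * h * E) + (h + 1) * h := by rw [hG, hE]; ring
  have hsq : (h + 1) * (h + 1) = (h + 1) * h + (h + 1) := by ring
  have hN₂' : N₂ = (h + 1) * h * E := by omega
  have hN₁' : N₁ + (h + 1) + 2 * N₂ = Nat.card G := by omega
  have h1 : N₁ + (h + 1) = (h + 1) * h := by omega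
  have hWcard : W.card = h * ((h + 1) * E + 1) := by
    have : h * ((h + 1) * E + 1) = (h + 1) * h * E + h := by ring
    omega
  by_contra hlt
  push Not at hlt
  have hhN : N₁ * h + N₂ * e = (T + E) * Nat.card G := by
    have h3 : N₁ * h + (h + 1) * h = (h + 1) * h * h := by rw [← Nat.add_mul, h1]
    have h4 : (h + 1) * h * h = (h + 1) * h * (T * e + 1) := by rw [← hT]
    rw [Nat.mul_add, mul_one] at h4
    have h2 : N₁ * h = (h + 1) * h * (T * e) := by omega
    rw [h2, hN₂', hG]
    ring
  have hWle : ∑ g ∈ W, cz g ≤ Nat.card G := by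
    have := Nat.mul_le_mul_right (Nat.card G) hlt
    rw [Nat.add_mul, Nat.add_mul] at this
    rw [Nat.add_mul] at hhN
    omega
  have hWne : W.Nonempty := Finset.card_pos.mp (by rw [hWcard]; positivity)
  obtain ⟨w, hw⟩ := hWne
  set K := Finset.univ.filter fun g : G => IsConj w g with hK
  have hKW : K ⊆ W := by
    intro g hg
    obtain ⟨t, rfl⟩ := isConj_iff.mp (Finset.mem_filter.mp hg).2
    refine Finset.mem_filter.mpr ⟨Finset.mem_univ _, ?_⟩
    refine Finset.card_eq_zero.mpr (Finset.filter_eq_empty_iff.mpr fun {c} _ hc => ?_)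
    refine Finset.filter_eq_empty_iff.mp (Finset.card_eq_zero.mp (Finset.mem_filter.mp hw).2)
      (Finset.mem_univ (t⁻¹ • c)) ?_
    rw [mul_smul, mul_smul] at hc
    exact smul_left_cancel t (by rw [hc, smul_inv_smul])
  have hKsum : ∑ g ∈ K, cz g = Nat.card G := by
    rw [← CfsgLib.Char.card_isConj_mul_card_centralizer w,
      Finset.sum_congr rfl (g := fun _ => cz w) fun g hg => ?_, Finset.sum_const, smul_eq_mul,
      Nat.card_eq_fintype_card, Fintype.card_subtype]
    obtain ⟨t, rfl⟩ := isConj_iff.mp (Finset.mem_filter.mp hg).2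
    exact card_centralizer_conj t w
  have hWK : W ⊆ K := by
    intro g hg
    by_contra hgK
    have h1 := Finset.sum_le_sum_of_subset (f := cz) (Finset.insert_subset hg hKW)
    rw [Finset.sum_insert hgK, hKsum] at h1
    have h2 : 0 < cz g := Nat.card_pos
    omega
  have hdvd : W.card ∣ Nat.card G := by
    rw [← CfsgLib.Char.card_isConj_mul_card_centralizer w, Nat.card_eq_fintype_card,
      Fintype.card_subtype, ← hK, le_antisymm hKW hWK]
    exact Dvd.intro _ rfl
  rw [hWcard, hG, mul_comm (h + 1) h, mul_assoc] at hdvd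
  have h1 := Nat.dvd_of_mul_dvd_mul_left (by omega) hdvd
  have h2 : (h + 1) * e = 2 * ((h + 1) * E + 1) + (T * e) := by rw [hE] at hT ⊢; nlinarith
  rw [h2, Nat.dvd_add_right (Dvd.intro_left _ rfl)] at h1
  have h3 := Nat.le_of_dvd (Nat.mul_pos (by omega) (by omega)) h1
  have h4 := Nat.mul_le_mul_left (h + 1) hE1
  omega

end CfsgLib.SmallGroups.ZassenhausHalf
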